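import Mathlib
import Cfsg.Agent.H459.Iface

/-!
# Radical elements of order three: the interface of the rows (helper959, for S3854; also S3832, S4336 at `p = 3`)

`x : MulAut K`, `K` a finite simple group, `orderOf x = 3`, `RC x` (`Cfsg.Agent.H459.Rad`).
* `T2 x` : `⟨x, y⟩` is solvable for all `2`-elements `y` of `K`; `Inv x` : the same for all involutions `y`;
* `Test x` : `T2 x` or `PS 4 x`; both imply `Inv x` (`Test.inv`);
* rows: `FixAt r K` (`x` normalises a nontrivial `r`-subgroup), `IRow K` (`RC x`, `Inv x` are contradictory),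
  `Row3 K` (`RC x`, `Test x` are contradictory); `.congr`, `IRow.row3`;
* `not_solvable_of_coprime` : `a ^ 3 = 1`, `b ^ 2 ^ k = 1`, `a b ≠ 1` of order prime to `6` : `⟨a, b⟩` is not solvable;
* `Inv.solvable`, `T2.solvable` : the conditions for `x = conj a`.
-/

set_option autoImplicit false
set_option linter.unusedSectionVars false

namespace Cfsg.Agent.H959.Rad3

open Subgroup Cfsg Cfsg.Agent.SignalizersComponents.ComponentExists Cfsg.Agent.H459.Rad Cfsg.Agent.H459.Iface

section Defs

variable {K : Type*} [Group K]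

/-- `⟨x, y⟩` is solvable for every `2`-element `y` of `K` -/
def T2 (x : MulAut K) : Prop :=
  ∀ y : K, (∃ k : ℕ, y ^ 2 ^ k = 1) → Group.IsSolvable ↥(closure ({x, MulAut.conj y} : Set (MulAut K)))

/-- `⟨x, y⟩` is solvable for every involution `y` of `K` -/
def Inv (x : MulAut K) : Prop :=
  ∀ y : K, y * y = 1 → Group.IsSolvable ↥(closure ({x, MulAut.conj y} : Set (MulAut K)))

/-- the hypothesis of S3854 or the hypothesis of S3832 -/
def Test (x : MulAut K) : Prop := T2 x ∨ PS 4 x

/-- the row of a group of Lie type of characteristic `r ≠ 3`, first half -/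
def FixAt (r : ℕ) (K : Type*) [Group K] : Prop :=
  ∀ x : MulAut K, orderOf x = 3 → RC x → Inv x → FixR r x

/-- `RC` and the involution test are contradictory -/
def IRow (K : Type*) [Group K] : Prop :=
  ∀ x : MulAut K, orderOf x = 3 → RC x → Inv x → False

/-- `RC` and `Test` are contradictory -/
def Row3 (K : Type*) [Group K] : Prop :=
  ∀ x : MulAut K, orderOf x = 3 → RC x → Test x → False

theorem T2.inv {x : MulAut K} (h : T2 x) : Inv x := fun y hy => h y ⟨1, by rw [pow_one, pow_two, hy]⟩

/-- solvable subgroups of a group: the normal closure trick -/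
theorem inv_of_ps {k : ℕ} (hk : 2 ≤ k) {x : MulAut K} (h : PS k x) : Inv x := by
  intro y hy
  have h2 := PS.mono (l := 2) hk (by norm_num) h
  set t : MulAut K := MulAut.conj y with ht
  have htt : t * t = 1 := by rw [ht, ← map_mul, hy, map_one]
  have hti : t⁻¹ = t := inv_eq_of_mul_eq_one_left htt
  set H : Subgroup (MulAut K) := closure {x, t * x * t} with hH
  have hHs : Group.IsSolvable H := by
    refine isSolvable_of_le ?_ (h2 ![1, y])
    rw [hH, closure_le]
    rintro z (rfl | rfl)
    · exact subset_closure ⟨0, by simp⟩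
    · refine subset_closure ⟨1, ?_⟩
      change MulAut.conj y * x * (MulAut.conj y)⁻¹ = _
      rw [← ht, hti]
  have hconj : ∀ z ∈ H, t * z * t⁻¹ ∈ H := by
    intro z hz
    have h3 : H.map (MulAut.conj t).toMonoidHom ≤ H := by
      rw [hH, MonoidHom.map_closure, closure_le]
      rintro _ ⟨z, (rfl | rfl), rfl⟩
      · refine subset_closure (Or.inr ?_)
        change t * z * t⁻¹ = _
        rw [hti]
      · refine subset_closure (Or.inl ?_)
        change t * (t * x * t) * t⁻¹ = _
        have : t * (t * x * t) * t⁻¹ = (t * t) * x := by group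
        rw [this, htt, one_mul]
    exact h3 ⟨z, hz, rfl⟩
  -- `H` is normalised by `t`
  have hn : ∀ g ∈ closure ({x, t} : Set (MulAut K)), ∀ a ∈ H, g * a * g⁻¹ ∈ H := by
    intro g hg
    refine closure_induction (p := fun g _ => ∀ a ∈ H, g * a * g⁻¹ ∈ H) ?_ ?_ ?_ ?_ hg
    · rintro z (rfl | rfl)
      · intro a ha
        have hz : z ∈ H := subset_closure (Or.inl rfl)
        exact mul_mem (mul_mem hz ha) (inv_mem hz)
      · intro a ha
        exact hconj a ha
    · intro a ha; simpa using ha
    · intro u v _ _ hu hv a ha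
      have := hu _ (hv a ha)
      have e : u * v * a * (u * v)⁻¹ = u * (v * a * v⁻¹) * u⁻¹ := by group
      rwa [e]
    · intro u _ hu a ha
      -- use finiteness-free argument: generators are closed under inverses up to `H`
      have hu' : ∀ n : MulAut K, n ∈ H → u * n * u⁻¹ ∈ H := hu
      -- `u⁻¹ H u = H`
      have key : ∀ g ∈ closure ({x, t} : Set (MulAut K)), H.map (MulAut.conj g).toMonoidHom = H := by
        intro g hg
        refine closure_induction (p := fun g _ => H.map (MulAut.conj g).toMonoidHom = H) ?_ ?_ ?_ ?_ hg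
        · rintro z (rfl | rfl)
          · have hz : z ∈ H := subset_closure (Or.inl rfl)
            exact Subgroup.mem_normalizer_iff_map_conj_eq.1 (le_normalizer hz)
          · apply le_antisymm
            · rintro _ ⟨a, ha, rfl⟩
              exact hconj a ha
            · intro a ha
              refine ⟨t * a * t⁻¹, hconj a ha, ?_⟩
              change t * (t * a * t⁻¹) * t⁻¹ = a
              have : t * (t * a * t⁻¹) * t⁻¹ = (t * t) * a * (t * t)⁻¹ := by group
              rw [this, htt]; simp
        · rw [map_one]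
          exact Subgroup.map_id H
        · intro u v _ _ hu hv
          have e : (MulAut.conj (u * v)).toMonoidHom = (MulAut.conj u).toMonoidHom.comp (MulAut.conj v).toMonoidHom := by
            rw [map_mul]; rfl
          rw [e, ← Subgroup.map_map, hv, hu]
        · intro u _ hu
          conv_lhs => rw [← hu]
          rw [Subgroup.map_map]
          have e : (MulAut.conj u⁻¹).toMonoidHom.comp (MulAut.conj u).toMonoidHom = MonoidHom.id _ := by
            ext a
            simp
          rw [e, Subgroup.map_id]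
      have h5 := key u⁻¹ (inv_mem ‹u ∈ closure ({x, t} : Set (MulAut K))›)
      rw [← h5]
      exact ⟨a, ha, rfl⟩
  have hsup : closure ({x, t} : Set (MulAut K)) ≤ H ⊔ zpowers t := by
    rw [closure_le]
    rintro z (rfl | rfl)
    · exact mem_sup_left (subset_closure (Or.inl rfl))
    · exact mem_sup_right (mem_zpowers t)
  -- `H ⟨t⟩` is solvable
  set C := closure ({x, t} : Set (MulAut K)) with hC
  have hHC : H ≤ C := by
    rw [hH, closure_le]
    have hx : x ∈ C := subset_closure (Or.inl rfl)
    have ht' : t ∈ C := subset_closure (Or.inr rfl)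
    rintro z (rfl | rfl)
    · exact hx
    · exact mul_mem (mul_mem ht' hx) ht'
  have hnorm : (H.subgroupOf C).Normal := ⟨fun n hn' g => by
    rw [mem_subgroupOf] at hn' ⊢
    exact hn g g.2 n hn'⟩
  refine (Group.isSolvable_iff_subgroup_quotient (H.subgroupOf C)).2 ⟨?_, ?_⟩
  · exact Group.isSolvable_of_surjective (f := (subgroupOfEquivOfLe hHC).symm.toMonoidHom)
      (subgroupOfEquivOfLe hHC).symm.surjective
  · -- the quotient is generated by the image of `t`
    have htC : t ∈ C := subset_closure (Or.inr rfl)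
    have hxC : x ∈ C := subset_closure (Or.inl rfl)
    have htop : ∀ q : C ⧸ H.subgroupOf C, q ∈ zpowers (QuotientGroup.mk' (H.subgroupOf C) ⟨t, htC⟩) := by
      have h6 : (zpowers (QuotientGroup.mk' (H.subgroupOf C) ⟨t, htC⟩)).comap (QuotientGroup.mk' (H.subgroupOf C)) = ⊤ := by
        rw [eq_top_iff]
        have h7 : (⊤ : Subgroup C) ≤ closure {(⟨x, hxC⟩ : C), ⟨t, htC⟩} := by
          intro c _
          have h8 : (closure {(⟨x, hxC⟩ : C), ⟨t, htC⟩}).map C.subtype = C := by
            rw [MonoidHom.map_closure, Set.image_pair]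
            rfl
          have h9 : (c : MulAut K) ∈ (closure {(⟨x, hxC⟩ : C), ⟨t, htC⟩}).map C.subtype := by rw [h8]; exact c.2
          obtain ⟨d, hd, h10⟩ := h9
          have : d = c := Subtype.ext h10
          rwa [← this]
        refine h7.trans ?_
        rw [closure_le]
        rintro z (rfl | rfl)
        · have h9 : QuotientGroup.mk' (H.subgroupOf C) ⟨x, hxC⟩ = 1 := by
            rw [QuotientGroup.mk'_apply, QuotientGroup.eq_one_iff, mem_subgroupOf]
            exact subset_closure (Or.inl rfl)
          rw [SetLike.mem_coe, mem_comap, h9]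
          exact one_mem _
        · rw [SetLike.mem_coe, mem_comap]
          exact mem_zpowers _
      intro q
      obtain ⟨c, rfl⟩ := QuotientGroup.mk'_surjective (H.subgroupOf C) q
      have : c ∈ (zpowers (QuotientGroup.mk' (H.subgroupOf C) ⟨t, htC⟩)).comap (QuotientGroup.mk' (H.subgroupOf C)) := by
        rw [h6]; exact mem_top c
      exact this
    refine Group.isSolvable_of_comm fun a b => ?_
    obtain ⟨i, rfl⟩ := htop a
    obtain ⟨j, rfl⟩ := htop b
    exact ((Commute.refl _).zpow_zpow i j).eq

theorem Test.inv {x : MulAut K} (h : Test x) : Inv x := by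
  rcases h with h | h
  · exact h.inv
  · exact inv_of_ps (by norm_num) h

theorem IRow.row3 (h : IRow K) : Row3 K := fun x hx hR hT => h x hx hR hT.inv

theorem FixAt.of_irow {r : ℕ} (h : IRow K) : FixAt r K := fun x hx hR hI => (h x hx hR hI).elim

end Defs

/-! ### Transport -/

section Transport

variable {K L : Type*} [Group K] [Group L]

theorem solvable_pair_tr (e : K ≃* L) {x : MulAut K} {y : L}
    (h : Group.IsSolvable ↥(closure ({x, MulAut.conj (e.symm y)} : Set (MulAut K)))) :
    Group.IsSolvable ↥(closure ({tr e x, MulAut.conj y} : Set (MulAut L))) := by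
  have h1 : (closure ({x, MulAut.conj (e.symm y)} : Set (MulAut K))).map (trE e).toMonoidHom =
      closure ({tr e x, MulAut.conj y} : Set (MulAut L)) := by
    rw [MonoidHom.map_closure, Set.image_pair]
    have h2 : (trE e).toMonoidHom (MulAut.conj (e.symm y)) = MulAut.conj y := by
      ext l
      change tr e (MulAut.conj (e.symm y)) l = _
      rw [tr_apply]
      simp
    rw [h2]
    rfl
  rw [← h1]
  exact isSolvable_map h _

theorem T2.tr (e : K ≃* L) {x : MulAut K} (h : T2 x) : T2 (tr e x) := by
  rintro y ⟨k, hk⟩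
  exact solvable_pair_tr e (h _ ⟨k, by rw [← map_pow, hk, map_one]⟩)

theorem Inv.tr (e : K ≃* L) {x : MulAut K} (h : Inv x) : Inv (tr e x) := by
  intro y hy
  exact solvable_pair_tr e (h _ (by rw [← map_mul, hy, map_one]))

theorem Test.tr (e : K ≃* L) {x : MulAut K} (h : Test x) : Test (tr e x) := by
  rcases h with h | h
  · exact Or.inl (T2.tr e h)
  · exact Or.inr (PS.tr e h)

variable [Finite K] [Finite L]

theorem FixAt.congr {r : ℕ} (e : K ≃* L) (h : FixAt r L) : FixAt r K := fun x hx hR hI =>
  FixR.of_tr e (h (H459.Rad.tr e x) (by rw [orderOf_tr, hx]) (hR.tr e) (hI.tr e))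

theorem IRow.congr (e : K ≃* L) (h : IRow L) : IRow K := fun x hx hR hI =>
  h (H459.Rad.tr e x) (by rw [orderOf_tr, hx]) (hR.tr e) (hI.tr e)

theorem Row3.congr (e : K ≃* L) (h : Row3 L) : Row3 K := fun x hx hR hI =>
  h (H459.Rad.tr e x) (by rw [orderOf_tr, hx]) (hR.tr e) (hI.tr e)

end Transport

/-! ### Criteria -/

section Crit

/-- **the perfect pair criterion** -/
theorem not_solvable_of_coprime {G : Type*} [Group G] {a b : G} {k n : ℕ} (ha : a ^ 3 = 1) (hb : b ^ 2 ^ k = 1)
    (hab : (a * b) ^ n = 1) (hn : Nat.Coprime n 6) (hne : a * b ≠ 1) :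
    ¬ Group.IsSolvable ↥(closure ({a, b} : Set G)) := by
  intro hs
  set H := closure ({a, b} : Set G) with hH
  have haH : a ∈ H := subset_closure (Or.inl rfl)
  have hbH : b ∈ H := subset_closure (Or.inr rfl)
  set φ : H →* Abelianization H := Abelianization.of with hφ
  set a' : H := ⟨a, haH⟩ with ha'
  set b' : H := ⟨b, hbH⟩ with hb'
  have h1 : φ a' ^ 3 = 1 := by
    rw [← map_pow]
    have : a' ^ 3 = 1 := Subtype.ext ha
    rw [this, map_one]
  have h2 : φ b' ^ 2 ^ k = 1 := by
    rw [← map_pow]
    have : b' ^ 2 ^ k = 1 := Subtype.ext hb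
    rw [this, map_one]
  have h3 : (φ a' * φ b') ^ n = 1 := by
    rw [← map_mul, ← map_pow]
    have : (a' * b') ^ n = 1 := Subtype.ext hab
    rw [this, map_one]
  have hc : Nat.Coprime n (3 * 2 ^ k) := by
    have h4 : Nat.Coprime n 2 := hn.coprime_dvd_right (by norm_num)
    have h5 : Nat.Coprime n 3 := hn.coprime_dvd_right (by norm_num)
    exact Nat.Coprime.mul_right h5 (h4.pow_right k)
  have h4 : φ a' * φ b' = 1 := by
    have h5 : (φ a' * φ b') ^ (3 * 2 ^ k) = 1 := by
      rw [mul_pow, pow_mul, h1, one_pow, one_mul, mul_comm 3, pow_mul, h2, one_pow]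
    have h6 := orderOf_dvd_of_pow_eq_one h3
    have h7 := orderOf_dvd_of_pow_eq_one h5
    have h8 : orderOf (φ a' * φ b') ∣ 1 := by
      rw [← hc.gcd_eq_one]
      exact Nat.dvd_gcd h6 h7
    exact orderOf_eq_one_iff.1 (Nat.dvd_one.1 h8)
  have h5 : φ a' = 1 := by
    have h6 : φ a' = (φ b')⁻¹ := eq_inv_of_mul_eq_one_left h4
    have h7 : φ a' ^ 2 ^ k = 1 := by rw [h6, inv_pow, h2, inv_one]
    have h8 : orderOf (φ a') ∣ 1 := by
      have : Nat.Coprime 3 (2 ^ k) := Nat.Coprime.pow_right k (by norm_num)
      rw [← this.gcd_eq_one]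
      exact Nat.dvd_gcd (orderOf_dvd_of_pow_eq_one h1) (orderOf_dvd_of_pow_eq_one h7)
    exact orderOf_eq_one_iff.1 (Nat.dvd_one.1 h8)
  have h6 : φ b' = 1 := by rwa [h5, one_mul] at h4
  -- `H` is perfect
  have h7 : commutator H = ⊤ := by
    rw [← Abelianization.ker_of, eq_top_iff]
    have h8 : (⊤ : Subgroup H) ≤ closure {a', b'} := by
      intro c _
      have h9 : (closure {a', b'}).map H.subtype = H := by
        rw [MonoidHom.map_closure, Set.image_pair]
        rfl
      have h10 : (c : G) ∈ (closure {a', b'}).map H.subtype := by rw [h9]; exact c.2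
      obtain ⟨d, hd, h11⟩ := h10
      have : d = c := Subtype.ext h11
      rwa [← this]
    refine h8.trans ?_
    rw [closure_le]
    rintro z (rfl | rfl)
    · exact h5
    · exact h6
  have hnt : Nontrivial H := ⟨⟨a' * b', 1, fun h => hne (congrArg Subtype.val h)⟩⟩
  have : Group.IsPerfect H := ⟨h7⟩
  exact Group.IsPerfect.not_isSolvable _ hs

variable {K : Type*} [Group K]

/-- the test for inner automorphisms, inside the group -/
theorem solvable_of_conj (hZ : center K = ⊥) {a b : K}
    (h : Group.IsSolvable ↥(closure ({MulAut.conj a, MulAut.conj b} : Set (MulAut K)))) :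
    Group.IsSolvable ↥(closure ({a, b} : Set K)) := by
  have hinj : Function.Injective (MulAut.conj : K →* MulAut K) := by
    rw [← MonoidHom.ker_eq_bot_iff, eq_bot_iff, ← hZ]
    intro z hz
    rw [mem_center_iff]
    intro l
    have h1 : MulAut.conj z l = l := by rw [MonoidHom.mem_ker.1 hz]; rfl
    rw [MulAut.conj_apply] at h1
    calc l * z = (z * l * z⁻¹) * z := by rw [h1]
      _ = z * l := by group
  have h1 : (closure ({a, b} : Set K)).map (MulAut.conj : K →* MulAut K) =
      closure ({MulAut.conj a, MulAut.conj b} : Set (MulAut K)) := by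
    rw [MonoidHom.map_closure, Set.image_pair]
  rw [← h1] at h
  exact Group.isSolvable_of_isSolvable_injective
    (f := ((closure ({a, b} : Set K)).equivMapOfInjective _ hinj).toMonoidHom) (MulEquiv.injective _)

theorem Inv.solvable (hZ : center K = ⊥) {a : K} (h : Inv (MulAut.conj a)) {y : K} (hy : y * y = 1) :
    Group.IsSolvable ↥(closure ({a, y} : Set K)) := solvable_of_conj hZ (h y hy)

theorem T2.solvable (hZ : center K = ⊥) {a : K} (h : T2 (MulAut.conj a)) {y : K} (hy : ∃ k : ℕ, y ^ 2 ^ k = 1) :
    Group.IsSolvable ↥(closure ({a, y} : Set K)) := solvable_of_conj hZ (h y hy)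

/-- the tests are invariant under conjugation -/
theorem Inv.conj {a : K} (h : Inv (MulAut.conj a)) (g : K) : Inv (MulAut.conj (g * a * g⁻¹)) := by
  have h1 := Inv.tr (MulAut.conj g) h
  have h2 : H459.Rad.tr (MulAut.conj g) (MulAut.conj a) = MulAut.conj (g * a * g⁻¹) := by
    ext k
    rw [tr_apply, MulAut.conj_apply, MulAut.conj_apply, MulAut.conj_apply, MulAut.conj_symm_apply]
    group
  rwa [h2] at h1

theorem T2.conj {a : K} (h : T2 (MulAut.conj a)) (g : K) : T2 (MulAut.conj (g * a * g⁻¹)) := by
  have h1 := T2.tr (MulAut.conj g) h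
  have h2 : H459.Rad.tr (MulAut.conj g) (MulAut.conj a) = MulAut.conj (g * a * g⁻¹) := by
    ext k
    rw [tr_apply, MulAut.conj_apply, MulAut.conj_apply, MulAut.conj_apply, MulAut.conj_symm_apply]
    group
  rwa [h2] at h1

/-- the inner part of `IRow` -/
def IRowInn (K : Type*) [Group K] : Prop :=
  ∀ a : K, orderOf a = 3 → RC (MulAut.conj a) → Inv (MulAut.conj a) → False

/-- if every automorphism of order three is inner -/
theorem IRowInn.irow (hZ : center K = ⊥) (hin : ∀ x : MulAut K, orderOf x = 3 → ∃ a : K, x = MulAut.conj a)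
    (h : IRowInn K) : IRow K := by
  intro x hx hR hI
  obtain ⟨a, rfl⟩ := hin x hx
  refine h a ?_ hR hI
  have hinj : Function.Injective (MulAut.conj : K →* MulAut K) := by
    rw [← MonoidHom.ker_eq_bot_iff, eq_bot_iff, ← hZ]
    intro z hz
    rw [mem_center_iff]
    intro l
    have h1 : MulAut.conj z l = l := by rw [MonoidHom.mem_ker.1 hz]; rfl
    rw [MulAut.conj_apply] at h1
    calc l * z = (z * l * z⁻¹) * z := by rw [h1]
      _ = z * l := by group
  rw [← orderOf_injective MulAut.conj hinj, hx]

end Crit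

end Cfsg.Agent.H959.Rad3
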