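import Mathlib
import Cfsg.Agent.H580.Graph

/-!
# Symmetries of order three of the diagrams of finite irreducible Coxeter groups (helper959)

`eq_one3` : the only diagram with a symmetry of order three is `D₄` (four nodes, one of them adjacent to the others).
-/

set_option autoImplicit false
set_option linter.unusedSectionVars false

namespace Cfsg.Agent.H959.Rad3.Graph

open Cfsg.Agent.LieRecognition.CoxClass Cfsg.Agent.H580.Graph

/-- A permutation of order three fixes invariant sets of at most two points pointwise. -/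
theorem fix_of_card_le_two {B : Type*} {σ : Equiv.Perm B} (hσ : σ ^ 3 = 1)
    (S : Finset B) (hS : ∀ x ∈ S, σ x ∈ S) (hc : S.card ≤ 2) {x : B} (hx : x ∈ S) : σ x = x := by
  classical
  have h3 : σ (σ (σ x)) = x := by
    have h1 : (σ ^ 3) x = x := by rw [hσ]; rfl
    rwa [pow_succ, pow_two] at h1
  by_contra hne
  have h1 : σ (σ x) ≠ x := by
    intro h
    rw [h] at h3
    exact hne h3
  have h2 : σ (σ x) ≠ σ x := fun h => hne (σ.injective h)
  have h4 : ({x, σ x, σ (σ x)} : Finset B).card = 3 := by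
    rw [Finset.card_insert_of_notMem, Finset.card_pair (Ne.symm h2)]
    simp only [Finset.mem_insert, Finset.mem_singleton, not_or]
    exact ⟨Ne.symm hne, Ne.symm h1⟩
  have h5 : ({x, σ x, σ (σ x)} : Finset B) ⊆ S := by
    intro y hy
    simp only [Finset.mem_insert, Finset.mem_singleton] at hy
    rcases hy with rfl | rfl | rfl
    · exact hx
    · exact hS _ hx
    · exact hS _ (hS _ hx)
  have := Finset.card_le_card h5
  omega

variable {B : Type*} [Fintype B] [DecidableEq B]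

/-- at most one neighbour -/
def Leaf (M : CoxeterMatrix B) (x : B) : Prop := ∀ y z, Adj M x y → Adj M x z → y = z

theorem leaf_iff {M : CoxeterMatrix B} {σ : Equiv.Perm B} (hσ : ∀ i j, Adj M (σ i) (σ j) ↔ Adj M i j) (x : B) :
    Leaf M (σ x) ↔ Leaf M x := by
  constructor
  · intro h y z hy hz
    exact σ.injective (h _ _ ((hσ x y).2 hy) ((hσ x z).2 hz))
  · intro h y z hy hz
    obtain ⟨y, rfl⟩ := σ.surjective y
    obtain ⟨z, rfl⟩ := σ.surjective z
    rw [h y z ((hσ x y).1 hy) ((hσ x z).1 hz)]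

/-- rigidity for symmetries of order three -/
theorem rigid3 {M : CoxeterMatrix B} (hconn : ∀ J : Set B, J.Nonempty → Jᶜ.Nonempty → ∃ a ∈ J, ∃ b ∈ Jᶜ, M a b ≠ 2)
    {σ : Equiv.Perm B} (hσ : ∀ i j, Adj M (σ i) (σ j) ↔ Adj M i j) (hσk : σ ^ 3 = 1)
    (L : Finset B) (hL : L.Nonempty) (hLσ : ∀ x ∈ L, σ x ∈ L) (hL2 : L.card ≤ 2)
    (hdeg : ∀ x, ∃ N₁ N₂ : Finset B, N₁.card ≤ 2 ∧ N₂.card ≤ 2 ∧
      ∀ y, Adj M x y → (Leaf M y → y ∈ N₁) ∧ (¬ Leaf M y → y ∈ N₂)) : σ = 1 := by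
  classical
  have key : ∀ x, σ x = x := by
    by_contra hcon
    push Not at hcon
    obtain ⟨x₀, hx₀⟩ := hcon
    obtain ⟨y₀, hy₀⟩ := hL
    obtain ⟨a, ha, b, hb, hab⟩ := hconn {x | σ x = x} ⟨y₀, fix_of_card_le_two hσk L hLσ hL2 hy₀⟩ ⟨x₀, hx₀⟩
    apply hb
    have hne : a ≠ b := by
      rintro rfl
      exact hb ha
    have ha' : σ a = a := ha
    obtain ⟨N₁, N₂, hN1, hN2, hN⟩ := hdeg a
    have hadj : ∀ y, Adj M a y → Adj M a (σ y) := by
      intro y hy
      have h2 := (hσ a y).mpr hy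
      rwa [ha'] at h2
    by_cases hl : Leaf M b
    · refine fix_of_card_le_two hσk (Finset.univ.filter fun y => Adj M a y ∧ Leaf M y) ?_
        ((Finset.card_le_card (fun y hy => ?_)).trans hN1) (Finset.mem_filter.mpr ⟨Finset.mem_univ _, ⟨hne, hab⟩, hl⟩)
      · intro y hy
        rw [Finset.mem_filter] at hy ⊢
        exact ⟨Finset.mem_univ _, hadj y hy.2.1, (leaf_iff hσ y).2 hy.2.2⟩
      · rw [Finset.mem_filter] at hy
        exact (hN y hy.2.1).1 hy.2.2
    · refine fix_of_card_le_two hσk (Finset.univ.filter fun y => Adj M a y ∧ ¬ Leaf M y) ?_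
        ((Finset.card_le_card (fun y hy => ?_)).trans hN2) (Finset.mem_filter.mpr ⟨Finset.mem_univ _, ⟨hne, hab⟩, hl⟩)
      · intro y hy
        rw [Finset.mem_filter] at hy ⊢
        exact ⟨Finset.mem_univ _, hadj y hy.2.1, fun h => hy.2.2 ((leaf_iff hσ y).1 h)⟩
      · rw [Finset.mem_filter] at hy
        exact (hN y hy.2.1).2 hy.2.2
  ext x
  exact key x

/-- the path -/
theorem rigid_path {M : CoxeterMatrix B}
    (hconn : ∀ J : Set B, J.Nonempty → Jᶜ.Nonempty → ∃ a ∈ J, ∃ b ∈ Jᶜ, M a b ≠ 2)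
    {σ : Equiv.Perm B} (hσ : ∀ i j, Adj M (σ i) (σ j) ↔ Adj M i j) (hσk : σ ^ 3 = 1)
    {n : ℕ} (hn : 3 ≤ n) {m : ℕ → ℕ → ℕ} (v : Fin n ≃ B) (hv : Lab M v m)
    (hm : ∀ i j, i ≠ j → (m i j ≠ 2 ↔ i + 1 = j ∨ j + 1 = i)) : σ = 1 := by
  classical
  have hadj : ∀ i j : Fin n, Adj M (v i) (v j) ↔ (i : ℕ) + 1 = j ∨ (j : ℕ) + 1 = i := by
    intro i j
    unfold Adj
    rw [hv i j, Ne, v.injective.eq_iff]
    constructor
    · rintro ⟨h1, h2⟩
      exact (hm i j (fun h => h1 (Fin.ext h))).1 h2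
    · intro h
      have h1 : (i : ℕ) ≠ j := by omega
      exact ⟨fun h2 => h1 (congrArg Fin.val h2), (hm i j h1).2 h⟩
  let w : ℕ → B := fun j => if h : j < n then v ⟨j, h⟩ else v ⟨0, by omega⟩
  have hw : ∀ (j : ℕ) (h : j < n), w j = v ⟨j, h⟩ := fun j h => dif_pos h
  refine rigid3 hconn hσ hσk (Finset.univ.filter fun x => Leaf M x) ⟨v ⟨0, by omega⟩, ?_⟩ ?_ ?_ ?_
  · rw [Finset.mem_filter]
    refine ⟨Finset.mem_univ _, fun y z hy hz => ?_⟩
    obtain ⟨y, rfl⟩ := v.surjective y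
    obtain ⟨z, rfl⟩ := v.surjective z
    rw [hadj] at hy hz
    simp only [Nat.add_eq_zero_iff, one_ne_zero, and_false, or_false] at hy hz
    congr 1
    exact Fin.ext (hy.symm.trans hz)
  · intro x hx
    rw [Finset.mem_filter] at hx ⊢
    exact ⟨Finset.mem_univ _, (leaf_iff hσ x).2 hx.2⟩
  · have h1 : (Finset.univ.filter fun x => Leaf M x) ⊆ ({0, n - 1} : Finset ℕ).image w := by
      intro x hx
      rw [Finset.mem_filter] at hx
      obtain ⟨i, rfl⟩ := v.surjective x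
      have hi := i.2
      by_cases h2 : 1 ≤ (i : ℕ) ∧ (i : ℕ) + 2 ≤ n
      · exfalso
        have h5 := hx.2 (v ⟨(i : ℕ) - 1, by omega⟩) (v ⟨(i : ℕ) + 1, by omega⟩)
          ((hadj _ _).mpr (by right; show (i : ℕ) - 1 + 1 = i; omega))
          ((hadj _ _).mpr (by left; rfl))
        have h6 : (i : ℕ) - 1 = (i : ℕ) + 1 := congrArg Fin.val (v.injective h5)
        omega
      · rw [Finset.mem_image]
        refine ⟨i, ?_, by rw [hw i i.2]⟩
        simp only [Finset.mem_insert, Finset.mem_singleton]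
        omega
    exact (Finset.card_le_card h1).trans (Finset.card_image_le.trans Finset.card_le_two)
  · intro x
    obtain ⟨i, rfl⟩ := v.surjective x
    have hc : (({(i : ℕ) - 1, (i : ℕ) + 1} : Finset ℕ).image w).card ≤ 2 :=
      Finset.card_image_le.trans Finset.card_le_two
    have h1 : ∀ y, Adj M (v i) y → y ∈ ({(i : ℕ) - 1, (i : ℕ) + 1} : Finset ℕ).image w := by
      intro y hy
      obtain ⟨j, rfl⟩ := v.surjective y
      rw [hadj] at hy
      rw [Finset.mem_image]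
      refine ⟨j, ?_, by rw [hw j j.2]⟩
      simp only [Finset.mem_insert, Finset.mem_singleton]
      omega
    exact ⟨_, _, hc, hc, fun y hy => ⟨fun _ => h1 y hy, fun _ => h1 y hy⟩⟩

/-- a path with one more node attached to the node `b`, `2 ≤ b ≤ n - 3` -/
theorem rigid_branch {M : CoxeterMatrix B}
    (hconn : ∀ J : Set B, J.Nonempty → Jᶜ.Nonempty → ∃ a ∈ J, ∃ b ∈ Jᶜ, M a b ≠ 2)
    {σ : Equiv.Perm B} (hσ : ∀ i j, Adj M (σ i) (σ j) ↔ Adj M i j) (hσk : σ ^ 3 = 1)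
    {n b : ℕ} (hb : 2 ≤ b) (hbn : b + 3 ≤ n) {m : ℕ → ℕ → ℕ} (v : Fin n ≃ B) (hv : Lab M v m)
    (hm : ∀ i j, i < n → j < n → i ≠ j → (m i j ≠ 2 ↔ (i + 1 = j ∧ j + 1 < n) ∨ (j + 1 = i ∧ i + 1 < n) ∨
      (i = b ∧ j + 1 = n) ∨ (j = b ∧ i + 1 = n))) : σ = 1 := by
  classical
  have hadj : ∀ i j : Fin n, Adj M (v i) (v j) ↔ (((i : ℕ) + 1 = j ∧ (j : ℕ) + 1 < n) ∨
      ((j : ℕ) + 1 = i ∧ (i : ℕ) + 1 < n) ∨ ((i : ℕ) = b ∧ (j : ℕ) + 1 = n) ∨ ((j : ℕ) = b ∧ (i : ℕ) + 1 = n)) := by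
    intro i j
    unfold Adj
    rw [hv i j, Ne, v.injective.eq_iff]
    constructor
    · rintro ⟨h1, h2⟩
      exact (hm i j i.2 j.2 (fun h => h1 (Fin.ext h))).1 h2
    · intro h
      have h1 : (i : ℕ) ≠ j := by omega
      exact ⟨fun h2 => h1 (congrArg Fin.val h2), (hm i j i.2 j.2 h1).2 h⟩
  let w : ℕ → B := fun j => if h : j < n then v ⟨j, h⟩ else v ⟨0, by omega⟩
  have hw : ∀ (j : ℕ) (h : j < n), w j = v ⟨j, h⟩ := fun j h => dif_pos h
  have hbr : ∀ i : Fin n, (∃ x y z, x ≠ y ∧ x ≠ z ∧ y ≠ z ∧ Adj M (v i) x ∧ Adj M (v i) y ∧ Adj M (v i) z) ↔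
      (i : ℕ) = b := by
    intro i
    constructor
    · rintro ⟨x, y, z, hxy, hxz, hyz, hx, hy, hz⟩
      obtain ⟨x, rfl⟩ := v.surjective x
      obtain ⟨y, rfl⟩ := v.surjective y
      obtain ⟨z, rfl⟩ := v.surjective z
      rw [hadj] at hx hy hz
      have e1 : (x : ℕ) ≠ y := fun h => hxy (by rw [Fin.ext h])
      have e2 : (x : ℕ) ≠ z := fun h => hxz (by rw [Fin.ext h])
      have e3 : (y : ℕ) ≠ z := fun h => hyz (by rw [Fin.ext h])
      omega
    · intro hi
      refine ⟨v ⟨b - 1, by omega⟩, v ⟨b + 1, by omega⟩, v ⟨n - 1, by omega⟩, ?_, ?_, ?_, ?_, ?_, ?_⟩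
      · intro h; have : b - 1 = b + 1 := congrArg Fin.val (v.injective h); omega
      · intro h; have : b - 1 = n - 1 := congrArg Fin.val (v.injective h); omega
      · intro h; have : b + 1 = n - 1 := congrArg Fin.val (v.injective h); omega
      · rw [hadj]; right; left; show b - 1 + 1 = i ∧ (i : ℕ) + 1 < n; omega
      · rw [hadj]; left; show (i : ℕ) + 1 = b + 1 ∧ b + 1 + 1 < n; omega
      · rw [hadj]; right; right; left; show (i : ℕ) = b ∧ n - 1 + 1 = n; omega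
  have hleaf : ∀ i : Fin n, Leaf M (v i) → (i : ℕ) = 0 ∨ (i : ℕ) + 2 = n ∨ (i : ℕ) + 1 = n := by
    intro i hi
    by_contra hcon
    push Not at hcon
    have h2 := i.2
    have h5 := hi (v ⟨(i : ℕ) - 1, by omega⟩) (v ⟨(i : ℕ) + 1, by omega⟩)
      ((hadj _ _).mpr (by right; left; show (i : ℕ) - 1 + 1 = i ∧ (i : ℕ) + 1 < n; omega))
      ((hadj _ _).mpr (by left; show (i : ℕ) + 1 = (i : ℕ) + 1 ∧ (i : ℕ) + 1 + 1 < n; omega))
    have h6 : (i : ℕ) - 1 = (i : ℕ) + 1 := congrArg Fin.val (v.injective h5)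
    omega
  have hlast : Leaf M (v ⟨n - 1, by omega⟩) := by
    intro y z hy hz
    obtain ⟨y, rfl⟩ := v.surjective y
    obtain ⟨z, rfl⟩ := v.surjective z
    rw [hadj] at hy hz
    have e1 : ((⟨n - 1, by omega⟩ : Fin n) : ℕ) = n - 1 := rfl
    rw [e1] at hy hz
    have h1 := y.2
    have h2 := z.2
    congr 1
    apply Fin.ext
    omega
  refine rigid3 hconn hσ hσk (Finset.univ.filter fun u => ∃ x y z, x ≠ y ∧ x ≠ z ∧ y ≠ z ∧ Adj M u x ∧ Adj M u y ∧
      Adj M u z) ⟨v ⟨b, by omega⟩, ?_⟩ ?_ ?_ ?_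
  · rw [Finset.mem_filter]
    exact ⟨Finset.mem_univ _, (hbr _).2 rfl⟩
  · intro u hu
    rw [Finset.mem_filter] at hu ⊢
    obtain ⟨-, x, y, z, h1, h2, h3, h4, h5, h6⟩ := hu
    exact ⟨Finset.mem_univ _, σ x, σ y, σ z, fun h => h1 (σ.injective h), fun h => h2 (σ.injective h),
      fun h => h3 (σ.injective h), (hσ _ _).2 h4, (hσ _ _).2 h5, (hσ _ _).2 h6⟩
  · have h1 : (Finset.univ.filter fun u => ∃ x y z, x ≠ y ∧ x ≠ z ∧ y ≠ z ∧ Adj M u x ∧ Adj M u y ∧ Adj M u z) ⊆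
        ({b} : Finset ℕ).image w := by
      intro x hx
      rw [Finset.mem_filter] at hx
      obtain ⟨i, rfl⟩ := v.surjective x
      have h2 := (hbr i).1 hx.2
      rw [Finset.mem_image]
      exact ⟨i, by rw [h2]; simp, by rw [hw i i.2]⟩
    exact (Finset.card_le_card h1).trans (Finset.card_image_le.trans (by simp))
  · intro x
    obtain ⟨i, rfl⟩ := v.surjective x
    by_cases hib : (i : ℕ) = b
    · refine ⟨({n - 1, b + 1} : Finset ℕ).image w, ({b - 1, b + 1} : Finset ℕ).image w,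
        Finset.card_image_le.trans Finset.card_le_two, Finset.card_image_le.trans Finset.card_le_two, ?_⟩
      intro y hy
      obtain ⟨j, rfl⟩ := v.surjective y
      rw [hadj] at hy
      have hj := j.2
      constructor
      · intro hl
        have h1 := hleaf j hl
        rw [Finset.mem_image]
        refine ⟨j, ?_, by rw [hw j j.2]⟩
        simp only [Finset.mem_insert, Finset.mem_singleton]
        omega
      · intro hl
        have h1 : (j : ℕ) ≠ n - 1 := by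
          intro h
          apply hl
          have : j = ⟨n - 1, by omega⟩ := Fin.ext h
          rw [this]
          exact hlast
        rw [Finset.mem_image]
        refine ⟨j, ?_, by rw [hw j j.2]⟩
        simp only [Finset.mem_insert, Finset.mem_singleton]
        omega
    · have key : ∃ N : Finset ℕ, N.card ≤ 2 ∧ ∀ j : Fin n, Adj M (v i) (v j) → (j : ℕ) ∈ N := by
        by_cases hi : (i : ℕ) + 1 = n
        · refine ⟨{b}, by simp, fun j hj => ?_⟩
          rw [hadj] at hj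
          have h1 := j.2
          simp only [Finset.mem_singleton]
          omega
        · refine ⟨{(i : ℕ) - 1, (i : ℕ) + 1}, Finset.card_le_two, fun j hj => ?_⟩
          rw [hadj] at hj
          have h1 := j.2
          have h2 := i.2
          simp only [Finset.mem_insert, Finset.mem_singleton]
          omega
      obtain ⟨N, hN2, hN⟩ := key
      have hc : (N.image w).card ≤ 2 := Finset.card_image_le.trans hN2
      have h1 : ∀ y, Adj M (v i) y → y ∈ N.image w := by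
        intro y hy
        obtain ⟨j, rfl⟩ := v.surjective y
        rw [Finset.mem_image]
        exact ⟨j, hN j hy, by rw [hw j j.2]⟩
      exact ⟨_, _, hc, hc, fun y hy => ⟨fun _ => h1 y hy, fun _ => h1 y hy⟩⟩

/-- **Only `D₄` has a symmetry of order three.** -/
theorem eq_one3 {M : CoxeterMatrix B} {W : Type*} [Group W] [Finite W] (cs : CoxeterSystem M W)
    (h5 : ∀ a b : B, M a b ≠ 5)
    (hconn : ∀ J : Set B, J.Nonempty → Jᶜ.Nonempty → ∃ a ∈ J, ∃ b ∈ Jᶜ, M a b ≠ 2)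
    (hD : Fintype.card B = 4 → ¬ ∃ t : B, ∀ s, s ≠ t → M s t ≠ 2)
    {σ : Equiv.Perm B} (hσ : ∀ i j, Adj M (σ i) (σ j) ↔ Adj M i j) (hσk : σ ^ 3 = 1) : σ = 1 := by
  rcases lt_or_ge (Fintype.card B) 3 with h3 | h3
  · ext x
    exact fix_of_card_le_two hσk Finset.univ (fun _ _ => Finset.mem_univ _) (by rw [Finset.card_univ]; omega)
      (Finset.mem_univ x)
  have hA : ∀ i j, i ≠ j → (mA i j ≠ 2 ↔ i + 1 = j ∨ j + 1 = i) := by
    intro i j hij
    unfold mA
    split_ifs <;> simp <;> omega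
  have hC : ∀ n i j, i ≠ j → (mC n i j ≠ 2 ↔ i + 1 = j ∨ j + 1 = i) := by
    intro n i j hij
    unfold mC
    split_ifs <;> simp <;> omega
  have hF : ∀ i j, i ≠ j → (mF i j ≠ 2 ↔ i + 1 = j ∨ j + 1 = i) := by
    intro i j hij
    unfold mF
    split_ifs <;> simp <;> omega
  have hDD : ∀ n, 4 ≤ n → ∀ i j, i < n → j < n → i ≠ j → (mD n i j ≠ 2 ↔ (i + 1 = j ∧ j + 1 < n) ∨ (j + 1 = i ∧ i + 1 < n) ∨
      (i = n - 3 ∧ j + 1 = n) ∨ (j = n - 3 ∧ i + 1 = n)) := by
    intro n hn i j hi hj hij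
    unfold mD
    split_ifs <;> constructor <;> intro h <;> omega
  have hE : ∀ n i j, i < n → j < n → i ≠ j → (mE n i j ≠ 2 ↔ (i + 1 = j ∧ j + 1 < n) ∨ (j + 1 = i ∧ i + 1 < n) ∨
      (i = 2 ∧ j + 1 = n) ∨ (j = 2 ∧ i + 1 = n)) := by
    intro n i j hi hj hij
    unfold mE
    split_ifs <;> simp <;> omega
  rcases classify_coxeter cs h5 hconn h3 with ⟨n, v, hn, hv⟩ | ⟨n, v, hn, hv⟩ | ⟨n, v, hn, hv⟩ | ⟨v, hv⟩ | ⟨v, hv⟩ |
    ⟨v, hv⟩ | ⟨v, hv⟩
  · exact rigid_path hconn hσ hσk hn v hv hA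
  · exact rigid_path hconn hσ hσk hn v hv (hC n)
  · rcases hn.eq_or_lt with h4 | h4
    · exfalso
      subst h4
      refine hD (by rw [← Fintype.card_congr v, Fintype.card_fin]) ⟨v ⟨1, by omega⟩, fun s hs => ?_⟩
      obtain ⟨i, rfl⟩ := v.surjective s
      rw [hv]
      have h1 : (i : ℕ) ≠ 1 := fun h => hs (by congr 1; exact Fin.ext h)
      have h2 := i.2
      have h6 := (hDD 4 le_rfl i 1 h2 (by norm_num) h1).2 (by omega)
      exact h6
    · exact rigid_branch hconn hσ hσk (b := n - 3) (by omega) (by omega) v hv (hDD n hn)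
  · exact rigid_branch hconn hσ hσk (b := 2) (by omega) (by omega) v hv (hE 6)
  · exact rigid_branch hconn hσ hσk (b := 2) (by omega) (by omega) v hv (hE 7)
  · exact rigid_branch hconn hσ hσk (b := 2) (by omega) (by omega) v hv (hE 8)
  · exact rigid_path hconn hσ hσk (by omega) v hv hF

end Cfsg.Agent.H959.Rad3.Graph
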