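import Mathlib
import Cfsg.Agent.H459.RgdRad
import Cfsg.Agent.H959.Rad3.Graph

/-!
# Radical automorphisms of order three fixing a proper parabolic subgroup (helper959, S3854, S3832)

* `one_involution` : in a solvable minimal parabolic subgroup a root group has at most one involution;
* `nonell3` : `x` of order three fixing a proper parabolic subgroup is trivial;
* `rig3`, `star3` : the hypotheses, for a root group datum.
-/

set_option autoImplicit false
set_option linter.unusedSectionVars false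

namespace Cfsg.Agent.H959.Rad3.Gal

open Cfsg Subgroup Cfsg.Agent.H459.Rad Cfsg.Agent.H459.Gallery Cfsg.Agent.H459.NonEll Cfsg.Agent.H459.Iface
open Cfsg.Agent.H459 Cfsg.Agent.H459.RgdRad
open Cfsg.Agent.Schreier.BNSch Cfsg.Agent.FixBN Cfsg.Agent.H459.SolNode
open scoped commutatorElement

section Sec

variable {K : Type*} [Group K] [Finite K]

/-- in a solvable minimal parabolic subgroup a regular root group has at most one involution -/
theorem one_involution {B M V X : Subgroup K} (hB : B ≤ M) (S : Sec B M V) (hXB : X ≤ B) {s : K} 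
    (htr : ∀ m ∈ M, m ∉ B → ∃ u ∈ X, ∃ b ∈ B, m = u * s * b)
    (hfaith : ∀ x ∈ X, s⁻¹ * x * s ∈ B → x = 1)
    {x y : K} (hx : x ∈ X) (hy : y ∈ X) (hx2 : x ^ 2 = 1) (hy2 : y ^ 2 = 1) (hx1 : x ≠ 1) (hy1 : y ≠ 1) : x = y := by
  -- elements of `X` act fixed point freely
  have hfree : ∀ z ∈ X, ∀ m ∈ M, m ∉ B → m⁻¹ * z * m ∈ B → z = 1 := by
    intro z hz m hm hmB h
    obtain ⟨u, hu, b, hb, rfl⟩ := htr m hm hmB
    have h1 : s⁻¹ * (u⁻¹ * z * u) * s ∈ B := by
      have h2 : b * ((u * s * b)⁻¹ * z * (u * s * b)) * b⁻¹ ∈ B := B.mul_mem (B.mul_mem hb h) (B.inv_mem hb)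
      have e : b * ((u * s * b)⁻¹ * z * (u * s * b)) * b⁻¹ = s⁻¹ * (u⁻¹ * z * u) * s := by group
      rwa [e] at h2
    have h2 := hfaith _ (X.mul_mem (X.mul_mem (X.inv_mem hu) hz) hu) h1
    have e : z = u * (u⁻¹ * z * u) * u⁻¹ := by group
    rw [e, h2]
    group
  -- involutions invert
  have hinv : ∀ z ∈ X, z ^ 2 = 1 → z ≠ 1 → ∀ v ∈ V, v * (z * v * z⁻¹) ∈ B := by
    intro z hz hz2 hz1 v hv
    by_contra hw
    apply hz1
    have hzM : z ∈ M := hB (hXB hz)
    have hzz : z⁻¹ = z := by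
      rw [inv_eq_iff_mul_eq_one, ← pow_two, hz2]
    have hzv : z * v * z⁻¹ ∈ V := S.conj z hzM v hv
    refine hfree z hz (v * (z * v * z⁻¹)) (S.le (V.mul_mem hv hzv)) hw ?_
    -- `w⁻¹ z w = (w⁻¹ (z w z⁻¹)) z`
    have e1 : (v * (z * v * z⁻¹))⁻¹ * z * (v * (z * v * z⁻¹)) =
        ((z * v * z⁻¹)⁻¹ * v⁻¹ * (z * v * z⁻¹) * v) * z := by
      have e3 : z * z = 1 := by rw [← pow_two, hz2]
      have e2 : z * (v * (z * v * z⁻¹)) = (z * v * z⁻¹) * v * z := by
        calc z * (v * (z * v * z⁻¹)) = (z * v * z⁻¹) * (z * z) * v * z⁻¹ := by group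
          _ = (z * v * z⁻¹) * v * z⁻¹ := by rw [e3, mul_one]
          _ = (z * v * z⁻¹) * v * z := congrArg (fun t => z * v * z⁻¹ * v * t) hzz
      rw [mul_inv_rev, mul_assoc ((z * v * z⁻¹)⁻¹ * v⁻¹), e2]
      group
    rw [e1]
    refine B.mul_mem ?_ (hXB hz)
    have h1 := S.comm ((z * v * z⁻¹)⁻¹) (V.inv_mem hzv) v⁻¹ (V.inv_mem hv)
    simpa using h1
  -- an element outside `B`
  obtain ⟨v, hv, hvB⟩ : ∃ v ∈ V, v ∉ B := by
    by_contra hcon
    push Not at hcon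
    exact S.nle hcon
  have h1 := hinv x hx hx2 hx1 v hv
  have h2 := hinv y hy hy2 hy1 v hv
  have hxV : x * v * x⁻¹ ∈ V := S.conj x (hB (hXB hx)) v hv
  have hyV : y * v * y⁻¹ ∈ V := S.conj y (hB (hXB hy)) v hv
  -- `y v y⁻¹` and `x v x⁻¹` are congruent
  have h3 : (x * v * x⁻¹)⁻¹ * (y * v * y⁻¹) ∈ B := by
    have h4 := B.mul_mem (B.inv_mem h1) h2
    have e : (v * (x * v * x⁻¹))⁻¹ * (v * (y * v * y⁻¹)) = (x * v * x⁻¹)⁻¹ * (y * v * y⁻¹) := by group
    rwa [e] at h4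
  have h4 : v⁻¹ * (x⁻¹ * y) * v ∈ B := by
    have h5 : x⁻¹ * ((x * v * x⁻¹)⁻¹ * (y * v * y⁻¹)) * y ∈ B := B.mul_mem (B.mul_mem (B.inv_mem (hXB hx)) h3) (hXB hy)
    have e : x⁻¹ * ((x * v * x⁻¹)⁻¹ * (y * v * y⁻¹)) * y = v⁻¹ * (x⁻¹ * y) * v := by group
    rwa [e] at h5
  have h5 := hfree _ (X.mul_mem (X.inv_mem hx) hy) v (S.le hv) hvB h4
  exact inv_mul_eq_one.1 h5

end Sec

section NonEll

variable {K : Type*} [Group K] [Finite K] (P : BNPair K)

/-- **A radical automorphism of order `p` fixing a proper parabolic subgroup is trivial**; in rank two no node is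
solvable. -/
theorem nonell3 {r p : ℕ} [Fact r.Prime] [Fact p.Prime] (U : Sylow r K)
    (hU : normalizer ((U : Subgroup K) : Set K) = P.B) 
    (hcore : P.B.normalCore = ⊥) {x : MulAut K} (h : RC x) (hxp : x ^ p = 1)
    (hBs : Group.IsSolvable P.B) (hirr : Irr P) (h2 : 2 ≤ P.S.ncard) (hrig : Rig P p) (hstar : Star P p)
    (hns : P.S.ncard = 2 → ∀ s ∈ P.S, ¬ Group.IsSolvable (P.parabolic {s}))
    {M₀ : Subgroup K} (hBM : P.B ≤ M₀) (hM₀ : M₀ ≠ ⊤) {g₀ : K} (hg₀ : Iv (cx x g₀) M₀) : x = 1 := by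
  classical
  obtain ⟨J₀, hJ₀, rfl⟩ := Cfsg.Agent.S0311.result P M₀ hBM
  have hJne : J₀ ≠ P.S := by
    rintro rfl
    exact hM₀ (by rw [← sup_closure_eq_top P]; rfl)
  obtain ⟨g, hg⟩ := exists_borel' P U hU h hxp hBs hirr hrig hstar hJ₀ hJne hg₀
  have hyp : ∀ g, (cx x g) ^ p = 1 := by
    intro g
    have e : cx x g = (MulAut.conj g)⁻¹ * x * ((MulAut.conj g)⁻¹)⁻¹ := by rw [inv_inv]; rfl
    rw [e, conj_pow, hxp, mul_one, mul_inv_cancel]
  have hrig' : ∀ g : K, Iv (cx x g) P.B → ∀ s ∈ P.S, Iv (cx x g) (P.parabolic {s}) := fun g hgB s hs =>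
    hrig _ hgB ⟨1, one_mem _, by rw [hyp, map_one]⟩ s hs
  have hne : ∀ s ∈ P.S, ({s} : Set K) ≠ P.S := by
    intro s hs he
    rw [← he, Set.ncard_singleton] at h2
    omega
  have hnode : ∀ g : K, Iv (cx x g) P.B → ∀ s ∈ P.S, Group.IsSolvable (P.parabolic {s}) →
      ∀ k ∈ P.parabolic {s}, k⁻¹ * cx x g k ∈ P.B := by
    intro g hgB s hs hsol
    rcases h2.eq_or_lt with h3 | h3
    · exact absurd hsol (hns h3.symm s hs)
    · -- a neighbour
      obtain ⟨s', hs', t, htS, ht, hst⟩ := hirr {s} (Set.singleton_subset_iff.2 hs) (Set.singleton_nonempty s) (hne s hs)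
      rw [Set.mem_singleton_iff] at hs' ht
      subst hs'
      have hLS : ({s', t} : Set K) ⊆ P.S := by
        rintro u (rfl | rfl)
        · exact hs
        · exact htS
      have hLne : ({s', t} : Set K) ≠ P.S := by
        intro he
        rw [← he, Set.ncard_pair (Ne.symm ht)] at h3
        omega
      obtain ⟨L', hL', hLe', -, hc⟩ := radIn_sup P hBs hLS
      have hsL : s' ∉ L' := fun h1 => hst (hc s' h1 t (Or.inr rfl) (Ne.symm ht))
      have htL : t ∉ L' := fun h1 => by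
        have h2 := hc t h1 s' (Or.inl rfl) ht
        apply hst
        have e : s' * t * s'⁻¹ * t⁻¹ = (t * s' * t⁻¹ * s'⁻¹)⁻¹ := by group
        rw [e]
        exact inv_mem h2
      have hL0 : L' = ∅ := by
        rw [Set.eq_empty_iff_forall_notMem]
        intro u hu
        rcases hL' hu with rfl | rfl
        · exact hsL hu
        · exact htL hu
      rw [hL0, parabolic_empty] at hLe'
      intro k hk
      have h4 := (h.cx g) _ (parabolic_ne_top P hLS hLne) (iv_parabolic P hgB (hrig' g hgB) hLS) k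
        (parabolic_mono P (Set.singleton_subset_iff.2 (Or.inl rfl)) hk)
      rw [← hLe']
      exact mem_sup_left h4
  have hall := all_fixed P (h.cx g) hBs (fun s hs => parabolic_ne_top P (Set.singleton_subset_iff.2 hs) (hne s hs))
    (fun g' hg' => by rw [cx_cx] at hg' ⊢; exact hrig' _ hg')
    (fun g' hg' => by rw [cx_cx] at hg' ⊢; exact hnode _ hg') hg
  have h1 := eq_one P hcore hall
  have h3 : x = MulAut.conj g * cx x g * (MulAut.conj g)⁻¹ := by
    unfold cx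
    group
  rw [h3, h1, mul_one, mul_inv_cancel]

end NonEll

open CoxeterSystem Cfsg.Agent.ChevalleyStructure.CoxeterGeom Cfsg.Agent.Tits.Roots
  Cfsg.Agent.Nodes.Reps Cfsg.Agent.Nodes.BNOf Cfsg.Agent.Nodes.LeviDec Cfsg.Agent.KFacts.RgdCharP
  Cfsg.Agent.KFacts.RgdVJ

variable {G : Type*} [Group G] {I : Type*} [Fintype I] [DecidableEq I] {M : CoxeterMatrix I} {W : Type*} [Group W]
  {cs : CoxeterSystem M W} {C : I → I → ℤ} {h : IsCartan M C} {r : ℕ} {T : Subgroup G} {n : I → G}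
  {X : (I → ℤ) → Subgroup G}

section

variable [Finite W] (R : RGD cs h r T n X) (hgen : RGD.B cs h T X ⊔ NN cs R.nsys = ⊤)

/-- **Rigidity** for elements of order three. -/
theorem rig3 [Finite G] (hconn : Conn M)
    (hD : Fintype.card I = 4 → ¬ ∃ t : I, ∀ s, s ≠ t → M s t ≠ 2) : Rig (R.bnPair hgen) 3 := by
  classical
  intro z hz hzp
  set P := R.bnPair hgen with hP
  have hs : Set.range n = P.S := rfl
  have hadj : ∀ i j, i ≠ j → (H580.Graph.Adj M i j ↔ n i * n j * (n i)⁻¹ * (n j)⁻¹ ∉ P.B) := fun i j hij => adj_iff R hij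
  obtain ⟨σ, hσ1, hσ2⟩ := Cfsg.Agent.Schreier.BNGraph.exists_perm P n hs R.n_injective (H580.Graph.Adj M)
    (fun i hi => hi.1 rfl) hadj z hz.map_eq
  have hpow : ∀ (k : ℕ) (i : I), (P.parabolic {n i}).map (z ^ k).toMonoidHom = P.parabolic {n ((σ ^ k) i)} := by
    intro k
    induction k with
    | zero =>
      intro i
      rw [pow_zero, pow_zero]
      exact Subgroup.map_id _
    | succ k ih =>
      intro i
      have e2 : (z ^ (k + 1)).toMonoidHom = (z ^ k).toMonoidHom.comp z.toMonoidHom := by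
        rw [pow_succ]; rfl
      rw [e2, ← Subgroup.map_map, hσ1, ih, pow_succ]
      rfl
  have hσk : σ ^ 3 = 1 := by
    ext i
    have h6 := hpow 3 i
    obtain ⟨b, hb, hzb⟩ := hzp
    rw [hzb] at h6
    have h7 : P.parabolic {n i} = P.parabolic {n ((σ ^ 3) i)} := by
      rw [← h6]
      exact (Subgroup.mem_normalizer_iff_map_conj_eq.1 (le_normalizer (B_le_parabolic P _ hb))).symm
    have hsS : ∀ i, ({n i} : Set G) ⊆ P.S := fun i => Set.singleton_subset_iff.mpr (hs ▸ ⟨i, rfl⟩)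
    have h8 := Cfsg.Agent.S0314.result P (hsS _) (hsS _) h7
    exact (R.n_injective (Set.singleton_eq_singleton_iff.mp h8)).symm
  have hσ : ∀ i, σ i = i := by
    intro i
    have h5 : ∀ a b : I, M a b ≠ 5 := by
      intro a b hab
      by_cases hne : a = b
      · rw [hne, M.diagonal] at hab; omega
      · rcases h.rel a b hne with h1 | h1 | h1 | h1 <;> omega
    have hconn' : ∀ J : Set I, J.Nonempty → Jᶜ.Nonempty → ∃ a ∈ J, ∃ b ∈ Jᶜ, M a b ≠ 2 := by
      intro J hJ hJc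
      exact hconn J hJ (fun h => by rw [h, Set.compl_univ] at hJc; exact Set.not_nonempty_empty hJc)
    rw [Graph.eq_one3 cs h5 hconn' hD hσ2 hσk]
    rfl
  intro s hsS
  rw [← hs] at hsS
  obtain ⟨i, rfl⟩ := hsS
  have h9 := hσ1 i
  rw [hσ i] at h9
  exact iv_of_map_eq h9

/-- a node is transitive -/
theorem trans_X (i : I) : ∀ m ∈ (R.bnPair hgen).parabolic {n i}, m ∉ (R.bnPair hgen).B →
    ∃ u ∈ X (sr i), ∃ b ∈ (R.bnPair hgen).B, m = u * n i * b := by
  set P := R.bnPair hgen with hP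
  intro m hm hmB
  rcases mem_parabolic_singleton P (mem_S R hgen) hm with h1 | ⟨b, hb, c, hc, h1⟩
  · exact absurd h1 hmB
  obtain ⟨u, hu, huT⟩ := NodeRGD.cover R hb
  obtain ⟨x, hx, hv⟩ := WittNodeA.exists_of_mem_U R i hu
  refine ⟨x, hx, (x * n i)⁻¹ * m, ?_, by group⟩
  rw [h1]
  have e : (x * n i)⁻¹ * (b * n i * c) = ((n i)⁻¹ * (x⁻¹ * u) * n i) * ((n i)⁻¹ * (u⁻¹ * b) * n i) * c := by group
  rw [e]
  refine P.B.mul_mem (P.B.mul_mem ?_ ?_) hc
  · exact RGD.U_le_B (RGD.Sup_mono (S := RGD.PosNe cs h i) (S' := RGD.Pos cs h) (fun z hz => ⟨hz.1, hz.2.1⟩)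
      (NodeRGD.conj_V_mem R i hv))
  · have h2 : u⁻¹ * b ∈ P.B ⊓ P.N := ⟨RGD.T_le_B huT, ⟨1, rp_of_mem huT⟩⟩
    have h3 := P.conj_mem (n i)⁻¹ (P.N.inv_mem (P.subset (mem_S R hgen))) _ h2
    rwa [inv_inv] at h3

/-- `1 + |X_s| ≤ |P_s : B|` -/
theorem le_index [Finite G] (i : I) :
    Nat.card (X (sr i)) + 1 ≤ (R.bnPair hgen).B.relIndex ((R.bnPair hgen).parabolic {n i}) := by
  classical
  set P := R.bnPair hgen with hP
  set M' := P.parabolic {n i} with hM
  have hBM : P.B ≤ M' := B_le_parabolic P _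
  have hsM : n i ∈ M' := mem_parabolic_self P _
  have hXB : X (sr i) ≤ P.B := RGD.X_le_B (isRoot_sr cs h i) (sr_nonneg i)
  set Ω := M' ⧸ P.B.subgroupOf M' with hΩ
  let f : Option (X (sr i)) → Ω := fun o => match o with
    | none => QuotientGroup.mk 1
    | some x => QuotientGroup.mk (⟨x, hBM (hXB x.2)⟩ * ⟨n i, hsM⟩)
  have hf : Function.Injective f := by
    intro a b hab
    rcases a with _ | a <;> rcases b with _ | b
    · rfl
    · exfalso
      have h1 : (QuotientGroup.mk 1 : Ω) = QuotientGroup.mk (⟨b, hBM (hXB b.2)⟩ * ⟨n i, hsM⟩) := hab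
      rw [QuotientGroup.eq, mem_subgroupOf] at h1
      have h2 : (1 : G)⁻¹ * ((b : G) * n i) ∈ P.B := h1
      rw [inv_one, one_mul] at h2
      have h3 := P.B.mul_mem (P.B.inv_mem (hXB b.2)) h2
      rw [inv_mul_cancel_left] at h3
      exact not_mem_B P (mem_S R hgen) h3
    · exfalso
      have h1 : (QuotientGroup.mk (⟨a, hBM (hXB a.2)⟩ * ⟨n i, hsM⟩) : Ω) = QuotientGroup.mk 1 := hab
      rw [eq_comm, QuotientGroup.eq, mem_subgroupOf] at h1
      have h2 : (1 : G)⁻¹ * ((a : G) * n i) ∈ P.B := h1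
      rw [inv_one, one_mul] at h2
      have h3 := P.B.mul_mem (P.B.inv_mem (hXB a.2)) h2
      rw [inv_mul_cancel_left] at h3
      exact not_mem_B P (mem_S R hgen) h3
    · have h1 : (QuotientGroup.mk (⟨a, hBM (hXB a.2)⟩ * ⟨n i, hsM⟩) : Ω) =
          QuotientGroup.mk (⟨b, hBM (hXB b.2)⟩ * ⟨n i, hsM⟩) := hab
      rw [QuotientGroup.eq, mem_subgroupOf] at h1
      have h2 : ((a : G) * n i)⁻¹ * ((b : G) * n i) ∈ P.B := h1
      have h3 : (n i)⁻¹ * ((a : G)⁻¹ * b) * n i ∈ P.B := by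
        have e : ((a : G) * n i)⁻¹ * ((b : G) * n i) = (n i)⁻¹ * ((a : G)⁻¹ * b) * n i := by group
        rwa [e] at h2
      have h4 := faithful R i ((X (sr i)).mul_mem ((X (sr i)).inv_mem a.2) b.2) h3
      rw [Subtype.ext (inv_mul_eq_one.1 h4)]
  have h1 := Nat.card_le_card_of_injective f hf
  rw [Subgroup.relIndex, Subgroup.index]
  refine le_trans (le_of_eq ?_) h1
  exact Finite.card_option.symm

/-- two different involutions in the root group -/
def TwoInv (X : Subgroup G) : Prop := ∃ u ∈ X, ∃ v ∈ X, u ≠ 1 ∧ v ≠ 1 ∧ u ≠ v ∧ u ^ 2 = 1 ∧ v ^ 2 = 1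

/-- **a node with two different involutions is not solvable** -/
theorem not_solvable_of_twoInv [Finite G] (i : I) (hT : TwoInv (X (sr i))) :
    ¬ Group.IsSolvable ((R.bnPair hgen).parabolic {n i}) := by
  set P := R.bnPair hgen with hP
  intro hsol
  obtain ⟨V, S⟩ := sec_node P (mem_S R hgen) hsol
  obtain ⟨u, hu, v, hv, hu1, hv1, huv, hu2, hv2⟩ := hT
  exact huv (one_involution (B_le_parabolic P _) S (RGD.X_le_B (isRoot_sr cs h i) (sr_nonneg i)) (trans_X R hgen i)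
    (fun x hx hm => faithful R i hx hm) hu hv hu2 hv2 hu1 hv1)

theorem star3 [Finite G] [Fact r.Prime] (hr : IsPGroup r (RGD.Sup X (RGD.Pos cs h)))
    (hE : r = 2 → (∃ t : I, ∀ s, s ≠ t → M s t ≠ 2) → ∀ i, TwoInv (X (sr i))) : Star (R.bnPair hgen) 3 := by
  classical
  set P := R.bnPair hgen with hP
  intro t ht hex hall
  obtain ⟨s, hs, hst⟩ := hex
  refine ⟨s, hs, hst, fun hdvd => ?_⟩
  have hsol := (hall s hs hst).2
  obtain ⟨i, rfl⟩ : ∃ i, n i = s := hs
  have hs : n i ∈ P.S := mem_S R hgen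
  by_cases hr2 : r = 2
  · have hst' : ∃ t : I, ∀ s, s ≠ t → M s t ≠ 2 := by
      obtain ⟨j, rfl⟩ : ∃ j, n j = t := ht
      refine ⟨j, fun k hk => ?_⟩
      have h1 := (hall (n k) ⟨k, rfl⟩ fun h => hk (R.n_injective h)).1
      exact ((adj_iff R hk).2 h1).2
    exact not_solvable_of_twoInv R hgen i (hE hr2 hst' i) hsol
  · -- `r` odd : the index is even
    obtain ⟨V, S⟩ := sec_node P hs hsol
    obtain ⟨l, m, hl, hlm⟩ := exists_pow S (trans_node P hs) (B_le_parabolic P _)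
    have hcov : ∀ b ∈ P.B, ∃ u ∈ RGD.Sup X (RGD.Pos cs h), u⁻¹ * b ∈ P.N := by
      intro b hb
      obtain ⟨u, hu, hT⟩ := NodeRGD.cover R hb
      exact ⟨u, hu, ⟨1, rp_of_mem hT⟩⟩
    obtain ⟨a, ha⟩ := index_node P (r := r) (U := RGD.Sup X (RGD.Pos cs h)) RGD.U_le_B hr hcov hs
    have hro : Odd r := (Fact.out : r.Prime).odd_of_ne_two hr2
    have h1 : Even (r ^ a + 1) := hro.pow.add_one
    rw [← ha, hlm] at h1
    have h2 : 2 ∣ l ^ m := h1.two_dvd
    have h3 := (Nat.prime_dvd_prime_iff_eq Nat.prime_two hl).1 (Nat.prime_two.dvd_of_dvd_pow h2)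
    rw [hlm] at hdvd
    have h4 := (Nat.prime_dvd_prime_iff_eq Nat.prime_three hl).1 (Nat.prime_three.dvd_of_dvd_pow hdvd)
    omega

/-- the condition on the root groups in rank two, and in stars in characteristic two -/
def Big (r : ℕ) (X : (I → ℤ) → Subgroup G) : Prop :=
  ∀ i : I, 4 ≤ Nat.card (X (sr i)) ∧ (r = 2 → TwoInv (X (sr i)))

/-- **A radical automorphism of order three normalising an `r`-subgroup is trivial.** -/
theorem eq_one_of_rgd3 [Finite G] [IsSimpleGroup G] [Fact r.Prime]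
    (hBT : BT cs h r T X) (hconn : Conn M) (hI : 2 ≤ Fintype.card I)
    (hsol : ∀ U : Sylow r G, Group.IsSolvable (normalizer ((U : Subgroup G) : Set G)))
    (hD : Fintype.card I = 4 → ¬ ∃ t : I, ∀ s, s ≠ t → M s t ≠ 2)
    (hE : (Fintype.card I = 2 ∨ (r = 2 ∧ ∃ t : I, ∀ s, s ≠ t → M s t ≠ 2)) → Big r X)
    (hsmall : r ≠ 2 → Fintype.card I = 2 → ∀ i, Group.IsSolvable ((R.bnPair hgen).parabolic {n i}) →
      (R.bnPair hgen).B.relIndex ((R.bnPair hgen).parabolic {n i}) ≤ 4)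
    {x : MulAut G} (hx : RC x) (hxp : x ^ 3 = 1) (hF : FixR r x) : x = 1 := by
  classical
  have : Fact (Nat.Prime 3) := ⟨Nat.prime_three⟩
  obtain ⟨i₀⟩ : Nonempty I := Fintype.card_pos_iff.mp (by omega)
  set P := R.bnPair hgen with hP
  have hne : P.S.Nonempty := ⟨n i₀, i₀, rfl⟩
  have hcore := Cfsg.Agent.Tits.OfBN.normalCore_eq_bot P hne
  have hsplit := SplitRGD.split_of_rgd Fact.out R hgen hcore
  obtain ⟨U', hU'⟩ := exists_sylow hsplit
  have hN : normalizer ((U' : Subgroup G) : Set G) = P.B := by rw [hU']; exact hsplit.normalizer_eq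
  have hns : ∀ V : Subgroup G, V ≠ ⊥ → V ≠ ⊤ → normalizer (V : Set G) ≠ ⊤ := by
    intro V h1 h2 h3
    rcases (Subgroup.normalizer_eq_top_iff.1 h3).eq_bot_or_eq_top with h4 | h4
    · exact h1 h4
    · exact h2 h4
  have hnB : n i₀ ∉ P.B := not_mem_B P (mem_S R hgen)
  have hnp : ¬ IsPGroup r G := by
    intro hG
    obtain ⟨k, hk⟩ := hG (n i₀)
    have h1 : (⊤ : Subgroup G) = (U' : Subgroup G) := by
      have h2 : IsPGroup r (⊤ : Subgroup G) := hG.of_equiv Subgroup.topEquiv.symm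
      exact U'.is_maximal' h2 le_top
    apply hnB
    rw [← hN]
    refine le_normalizer ?_
    rw [← h1]
    trivial
  obtain ⟨M₀, g₀, h1, h2, h3⟩ := exists_par R hgen hBT hns hnp hF
  refine nonell3 P U' hN hcore hx hxp ?_ (irr R hgen hconn) ?_ (rig3 R hgen hconn hD)
    (star3 R hgen hsplit.isP fun hr ht i => (hE (Or.inr ⟨hr, ht⟩) i).2 hr) ?_ h1 h2 h3
  · rw [← hN]
    exact hsol U'
  · rw [hP, ncard_S]
    exact hI
  · intro h4 s hs hs'
    obtain ⟨i, rfl⟩ : ∃ i, n i = s := hs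
    rw [hP, ncard_S R hgen] at h4
    obtain ⟨h5, h6⟩ := hE (Or.inl h4) i
    by_cases hr : r = 2
    · exact not_solvable_of_twoInv R hgen i (h6 hr) hs'
    · have h7 := hsmall hr h4 i hs'
      have h8 := le_index R hgen i
      rw [← hP] at h8
      omega

end

end Cfsg.Agent.H959.Rad3.Gal
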