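import Mathlib
import Cfsg.Agent.H587.AltEnd.Row
import Cfsg.Agent.H959.Rad3.Iface

/-!
# The alternating groups, elements of order three (helper959, S3854, S3832, S4336)

* `norc_alt` : `n ≥ 7`: no automorphism of order three is radical;
* `irow_alt` : `n ≥ 5`: `IRow`.
-/

set_option autoImplicit false

namespace Cfsg.Agent.H959.Rad3.Alt

open Subgroup Equiv Cfsg Cfsg.Agent.H459.Rad Cfsg.Agent.H459.Iface Cfsg.Agent.H839.Rad Cfsg.Agent.H587.AltEnd

variable {n : ℕ}

/-- an invariant proper subset of at least five points is fixed pointwise -/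
theorem fix_of_rc {a : ↥(alternatingGroup (Fin n))} (h : RC (MulAut.conj a)) {B : Finset (Fin n)} (h5 : 5 ≤ B.card)
    (hn : B.card < n) (hB : ∀ y, (a : Perm (Fin n)) y ∈ B ↔ y ∈ B) {i : Fin n} (hi : i ∈ B) :
    (a : Perm (Fin n)) i = i := by
  classical
  set s : Perm (Fin n) := (a : Perm (Fin n)) with hs
  by_contra hne
  have hsi : s i ∈ B := (hB i).2 hi
  -- two more points
  obtain ⟨k, hk, hki, hks⟩ : ∃ k ∈ B, k ≠ i ∧ k ≠ s i := by
    have h1 : 0 < ((B.erase i).erase (s i)).card := by
      rw [Finset.card_erase_of_mem (Finset.mem_erase.2 ⟨hne, hsi⟩), Finset.card_erase_of_mem hi]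
      omega
    obtain ⟨k, hk⟩ := Finset.card_pos.1 h1
    rw [Finset.mem_erase, Finset.mem_erase] at hk
    exact ⟨k, hk.2.2, hk.2.1, hk.1⟩
  obtain ⟨l, hl, hli, hls, hlk⟩ : ∃ l ∈ B, l ≠ i ∧ l ≠ s i ∧ l ≠ k := by
    have h1 : 0 < (((B.erase i).erase (s i)).erase k).card := by
      rw [Finset.card_erase_of_mem (Finset.mem_erase.2 ⟨hks, Finset.mem_erase.2 ⟨hki, hk⟩⟩),
        Finset.card_erase_of_mem (Finset.mem_erase.2 ⟨hne, hsi⟩), Finset.card_erase_of_mem hi]
      omega
    obtain ⟨l, hl⟩ := Finset.card_pos.1 h1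
    rw [Finset.mem_erase, Finset.mem_erase, Finset.mem_erase] at hl
    exact ⟨l, hl.2.2.2, hl.2.2.1, hl.2.1, hl.1⟩
  -- the three-cycle
  set t : Perm (Fin n) := swap i k * swap k l with ht
  have htA : t ∈ alternatingGroup (Fin n) := by
    rw [Perm.mem_alternatingGroup, ht, map_mul, Perm.sign_swap hki.symm, Perm.sign_swap hlk.symm]
    rfl
  have htB : (⟨t, htA⟩ : ↥(alternatingGroup (Fin n))) ∈ AB B := by
    intro y hy
    have h0 : y ≠ i := fun h => hy (h ▸ hi)
    have h1 : y ≠ k := fun h => hy (h ▸ hk)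
    have h2 : y ≠ l := fun h => hy (h ▸ hl)
    change t y = y
    rw [ht, Perm.mul_apply, swap_apply_of_ne_of_ne h1 h2, swap_apply_of_ne_of_ne h0 h1]
  have hinv : ∀ m ∈ AB B, MulAut.conj a m ∈ AB B := by
    intro m hm y hy
    have h1 : ((MulAut.conj a m : ↥(alternatingGroup (Fin n))) : Perm (Fin n)) = s * (m : Perm (Fin n)) * s⁻¹ := rfl
    rw [h1, Perm.mul_apply, Perm.mul_apply]
    have h2 : s⁻¹ y ∉ B := fun h => hy (by
      have := (hB _).2 h
      simpa using this)
    rw [hm _ h2]
    simp
  have hne' : AB B ≠ ⊤ := by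
    intro h1
    obtain ⟨y, hy⟩ : ∃ y, y ∉ B := by
      by_contra hcon
      push Not at hcon
      have h2 : (Finset.univ : Finset (Fin n)) ⊆ B := fun y _ => hcon y
      have h3 := Finset.card_le_card h2
      rw [Finset.card_univ, Fintype.card_fin] at h3
      omega
    have hyi : y ≠ i := fun h => hy (h ▸ hi)
    have hyk : y ≠ k := fun h => hy (h ▸ hk)
    have huA : swap i k * swap k y ∈ alternatingGroup (Fin n) := by
      rw [Perm.mem_alternatingGroup, map_mul, Perm.sign_swap hki.symm, Perm.sign_swap hyk.symm]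
      rfl
    have h2 : (⟨_, huA⟩ : ↥(alternatingGroup (Fin n))) ∈ AB B := h1 ▸ mem_top _
    have h3 : (swap i k * swap k y) y = y := h2 y hy
    rw [Perm.mul_apply, swap_apply_right, swap_apply_right] at h3
    exact hyi h3.symm
  have key := h.eq_of_rad_eq_bot hne' hinv (rad_AB h5) htB
  have key2 : s * t * s⁻¹ = t := congrArg Subtype.val key
  have h1 : (s * t * s⁻¹) (s i) = t (s i) := by rw [key2]
  have h2 : t (s i) = s i := by
    rw [ht, Perm.mul_apply, swap_apply_of_ne_of_ne hks.symm hls.symm, swap_apply_of_ne_of_ne hne hks.symm]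
  rw [h2, Perm.mul_apply, Perm.mul_apply, show s⁻¹ (s i) = i from s.symm_apply_apply _] at h1
  have h3 := s.injective h1
  rw [ht, Perm.mul_apply, swap_apply_of_ne_of_ne hki.symm hli.symm, swap_apply_left] at h3
  exact hki h3

/-- radical elements of order three of `A_n` : `n ≤ 6`, and no fixed points if `n = 6` -/
theorem small_of_rc {a : ↥(alternatingGroup (Fin n))} (h : RC (MulAut.conj a)) (ho : orderOf a = 3) :
    n ≤ 6 ∧ (n = 6 → ∀ i, (a : Perm (Fin n)) i ≠ i) := by
  classical
  set s : Perm (Fin n) := (a : Perm (Fin n)) with hs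
  have hso : orderOf s = 3 := by rw [hs, Subgroup.orderOf_coe, ho]
  have hs3 : ∀ y, s (s (s y)) = y := by
    intro y
    have h1 : (s ^ 3) y = y := by rw [← hso, pow_orderOf_eq_one]; rfl
    exact h1
  obtain ⟨i, hi⟩ : ∃ i, s i ≠ i := by
    by_contra hcon
    push Not at hcon
    have h1 : s = 1 := Perm.ext hcon
    rw [h1, orderOf_one] at hso
    omega
  have hfix : ∀ j, s j = j → n < 6 := by
    intro j hj
    by_contra hn
    have hij : i ≠ j := fun h => hi (h ▸ hj)
    refine hi (fix_of_rc h (B := Finset.univ.erase j) ?_ ?_ ?_ (Finset.mem_erase.2 ⟨hij, Finset.mem_univ _⟩))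
    · rw [Finset.card_erase_of_mem (Finset.mem_univ _), Finset.card_univ, Fintype.card_fin]
      omega
    · rw [Finset.card_erase_of_mem (Finset.mem_univ _), Finset.card_univ, Fintype.card_fin]
      omega
    · intro y
      rw [Finset.mem_erase, Finset.mem_erase]
      have : s y ≠ j ↔ y ≠ j := by
        rw [not_iff_not]
        constructor
        · intro h; rw [← hj] at h; exact s.injective h
        · rintro rfl; exact hj
      simp only [Finset.mem_univ, and_true]
      exact this
  refine ⟨?_, fun h6 j hj => by have := hfix j hj; omega⟩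
  by_contra hn
  have hnf : ∀ j, s j ≠ j := fun j hj => by have := hfix j hj; omega
  -- `n ≥ 9` : remove a cycle
  have d1 : s i ≠ i := hi
  have d2 : s (s i) ≠ s i := fun h => hi (s.injective h)
  have d3 : s (s i) ≠ i := fun h => by
    have h1 := congrArg s h
    rw [hs3] at h1
    exact hi h1.symm
  set C : Finset (Fin n) := {i, s i, s (s i)} with hC
  have hCc : C.card = 3 := by
    rw [hC, Finset.card_insert_of_notMem, Finset.card_insert_of_notMem, Finset.card_singleton]
    · rw [Finset.mem_singleton]; exact fun h => d2 h.symm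
    · rw [Finset.mem_insert, Finset.mem_singleton]
      rintro (h | h)
      · exact d1 h.symm
      · exact d3 h.symm
  have hCs : ∀ y, s y ∈ C ↔ y ∈ C := by
    intro y
    rw [hC]
    simp only [Finset.mem_insert, Finset.mem_singleton]
    constructor
    · rintro (h | h | h)
      · right; right
        have h1 := congrArg (fun z => s (s z)) h
        simp only [hs3] at h1
        exact h1
      · left; exact s.injective h
      · right; left; exact s.injective h
    · rintro (rfl | rfl | rfl)
      · right; left; rfl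
      · right; right; rfl
      · left; exact hs3 _
  obtain ⟨j, hj⟩ : ∃ j, j ∉ C := by
    by_contra hcon
    push Not at hcon
    have h2 : (Finset.univ : Finset (Fin n)) ⊆ C := fun y _ => hcon y
    have h3 := Finset.card_le_card h2
    rw [Finset.card_univ, Fintype.card_fin] at h3
    omega
  -- `3 ∣ n`
  have h3n : 3 ∣ n := by
    have h1 := Perm.sum_cycleType s
    obtain ⟨m, hm⟩ := Perm.cycleType_prime_order (σ := s) (by rw [hso]; exact Nat.prime_three)
    have h2 : s.support = Finset.univ := by
      rw [Finset.eq_univ_iff_forall]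
      intro j
      rw [Perm.mem_support]
      exact hnf j
    rw [h2, Finset.card_univ, Fintype.card_fin, hm, Multiset.sum_replicate, hso, smul_eq_mul] at h1
    exact ⟨m + 1, by omega⟩
  have hn9 : 9 ≤ n := by
    obtain ⟨m, rfl⟩ := h3n
    omega
  refine hnf j (fix_of_rc h (B := Cᶜ) ?_ ?_ ?_ (Finset.mem_compl.2 hj))
  · rw [Finset.card_compl, Fintype.card_fin, hCc]
    omega
  · rw [Finset.card_compl, Fintype.card_fin, hCc]
    omega
  · intro y
    rw [Finset.mem_compl, Finset.mem_compl, hCs]

/-- permutations of order three moving the same number of points are conjugate -/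
theorem isConj_of {s s0 : Perm (Fin n)} (h : orderOf s = 3) (h0 : orderOf s0 = 3)
    (hc : s.support.card = s0.support.card) : IsConj s s0 := by
  rw [Perm.isConj_iff_cycleType_eq]
  obtain ⟨m, hm⟩ := Perm.cycleType_prime_order (σ := s) (by rw [h]; exact Nat.prime_three)
  obtain ⟨m0, hm0⟩ := Perm.cycleType_prime_order (σ := s0) (by rw [h0]; exact Nat.prime_three)
  have h1 := Perm.sum_cycleType s
  have h2 := Perm.sum_cycleType s0
  rw [hm, Multiset.sum_replicate, h, smul_eq_mul] at h1
  rw [hm0, Multiset.sum_replicate, h0, smul_eq_mul] at h2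
  have h3 : m = m0 := by omega
  rw [hm, hm0, h3, h, h0]

/-- conjugates of a `(2, 3, 5)` pair -/
theorem false_of_pair {a : ↥(alternatingGroup (Fin n))} (hI : Inv (MulAut.conj a))
    (hZ : center ↥(alternatingGroup (Fin n)) = ⊥) (ho : orderOf a = 3)
    {s0 t0 : Perm (Fin n)} (hs : IsConj (a : Perm (Fin n)) s0) (ht0 : Perm.sign t0 = 1)
    (ht2 : t0 * t0 = 1) (h5 : (s0 * t0) ^ 5 = 1) (h1 : s0 * t0 ≠ 1) : False := by
  obtain ⟨c, hc⟩ := isConj_iff.1 hs.symm
  set t : Perm (Fin n) := c * t0 * c⁻¹ with ht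
  have htA : t ∈ alternatingGroup (Fin n) := by
    rw [Perm.mem_alternatingGroup]
    rw [ht, map_mul, map_mul, ht0, map_inv, mul_one, mul_inv_cancel]
  have htt : (⟨t, htA⟩ : ↥(alternatingGroup (Fin n))) * ⟨t, htA⟩ = 1 := by
    apply Subtype.ext
    show t * t = 1
    have : t * t = c * (t0 * t0) * c⁻¹ := by rw [ht]; group
    rw [this, ht2, mul_one, mul_inv_cancel]
  have h6 := hI.solvable hZ htt
  have hst : ((a * ⟨t, htA⟩ : ↥(alternatingGroup (Fin n))) : Perm (Fin n)) = c * (s0 * t0) * c⁻¹ := by
    show (a : Perm (Fin n)) * t = _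
    rw [← hc, ht]
    group
  refine not_solvable_of_coprime (a := a) (b := ⟨t, htA⟩) (k := 1) (n := 5) ?_ ?_ ?_ (by norm_num) ?_ h6
  · rw [← ho, pow_orderOf_eq_one]
  · rw [pow_one, pow_two, htt]
  · apply Subtype.ext
    rw [Subgroup.coe_pow, hst, conj_pow, h5, mul_one, mul_inv_cancel]
    rfl
  · intro h
    have h7 := congrArg Subtype.val h
    rw [hst] at h7
    apply h1
    have h8 : c * (s0 * t0) * c⁻¹ = 1 := h7
    have h9 : s0 * t0 = c⁻¹ * (c * (s0 * t0) * c⁻¹) * c := by group
    rw [h9, h8]
    group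

set_option maxRecDepth 4000 in
/-- **the row of the alternating groups** -/
theorem irow_alt (hn : 5 ≤ n) : IRow (alternatingGroup (Fin n)) := by
  intro x hx hR hI
  have hin := Cfsg.Agent.H568.autInner_altAll hn Nat.prime_three (by norm_num)
  obtain ⟨a, rfl⟩ := hin x hx
  have hc : center ↥(alternatingGroup (Fin n)) = ⊥ :=
    alternatingGroup.center_eq_bot (by rw [Nat.card_eq_fintype_card, Fintype.card_fin]; omega)
  rw [orderOf_injective _ (conj_injective hc)] at hx
  obtain ⟨h6, hf⟩ := small_of_rc hR hx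
  have hso : orderOf (a : Perm (Fin n)) = 3 := by rw [Subgroup.orderOf_coe, hx]
  obtain ⟨m, hm⟩ := Perm.cycleType_prime_order (σ := (a : Perm (Fin n))) (by rw [hso]; exact Nat.prime_three)
  have h1 := Perm.sum_cycleType (a : Perm (Fin n))
  rw [hm, Multiset.sum_replicate, hso, smul_eq_mul] at h1
  have h2 := Finset.card_le_univ (a : Perm (Fin n)).support
  rw [Fintype.card_fin] at h2
  interval_cases n
  · -- `A₅`
    have o : orderOf (swap 0 1 * swap 1 2 : Perm (Fin 5)) = 3 := orderOf_eq_prime (by decide) (by decide)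
    refine false_of_pair hI hc hx (s0 := swap 0 1 * swap 1 2) (t0 := swap 0 3 * swap 1 4) (isConj_of hso o ?_)
      (by decide) (by decide) (by decide) (by decide)
    have : (swap 0 1 * swap 1 2 : Perm (Fin 5)).support.card = 3 := by decide
    omega
  · -- `A₆`
    have o : orderOf (swap 0 1 * swap 1 2 * (swap 3 4 * swap 4 5) : Perm (Fin 6)) = 3 :=
      orderOf_eq_prime (by decide) (by decide)
    refine false_of_pair hI hc hx (s0 := swap 0 1 * swap 1 2 * (swap 3 4 * swap 4 5)) (t0 := swap 0 1 * swap 2 3)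
      (isConj_of hso o ?_) (by decide) (by decide) (by decide) (by decide)
    have h3 : (swap 0 1 * swap 1 2 * (swap 3 4 * swap 4 5) : Perm (Fin 6)).support.card = 6 := by decide
    have h4 : (a : Perm (Fin 6)).support = Finset.univ := by
      rw [Finset.eq_univ_iff_forall]
      intro i
      rw [Perm.mem_support]
      exact hf rfl i
    rw [h3, h4, Finset.card_univ, Fintype.card_fin]

/-- **no radical automorphisms of order three** for `n ≥ 7` -/
theorem norc_alt (hn : 7 ≤ n) (x : MulAut (alternatingGroup (Fin n))) (hx : orderOf x = 3) (hR : RC x) : False := by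
  have hin := Cfsg.Agent.H568.autInner_altAll (n := n) (p := 3) (by omega) Nat.prime_three (by norm_num)
  obtain ⟨a, rfl⟩ := hin x hx
  have hc : center ↥(alternatingGroup (Fin n)) = ⊥ :=
    alternatingGroup.center_eq_bot (by rw [Nat.card_eq_fintype_card, Fintype.card_fin]; omega)
  rw [orderOf_injective _ (conj_injective hc)] at hx
  have := (small_of_rc hR hx).1
  omega

end Cfsg.Agent.H959.Rad3.Alt
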