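import Mathlib
import Cfsg.Agent.H959.Rad3.Node

/-!
# Radical automorphisms of order three: rank at least four, no solvable nodes (helper959, S3854, S3832)

All nodes are not solvable: a radical automorphism of order three fixing a proper parabolic subgroup fixes `B`
(`rad(P_J) ≤ B`), and all nodes (`RC` at `P_O`, `O` an orbit of nodes), so it is trivial.  This covers `PΩ⁺₈(q)`, `q ≥ 4`,
where the diagram has a symmetry of order three.
-/

set_option autoImplicit false
set_option linter.unusedSectionVars false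

namespace Cfsg.Agent.H959.Rad3.NonSol

open Cfsg Subgroup Cfsg.Agent.H459.Rad Cfsg.Agent.H459.Gallery Cfsg.Agent.H459.NonEll Cfsg.Agent.H459.Iface
open Cfsg.Agent.H459 Cfsg.Agent.H459.RgdRad Cfsg.Agent.H459.SmallNode Cfsg.Agent.H459.NonFix Cfsg.Agent.H959.Rad3.Gal
open Cfsg.Agent.H959.Rad3.Node
open Cfsg.Agent.Schreier.BNSch Cfsg.Agent.FixBN Cfsg.Agent.SignalizersComponents.ComponentExists
open scoped commutatorElement

section BN

variable {K : Type*} [Group K] [Finite K] (P : BNPair K)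

theorem rad_le_B (hBs : Group.IsSolvable P.B) (hns : ∀ s ∈ P.S, ¬ Group.IsSolvable (P.parabolic {s})) {L : Set K}
    (hL : L ⊆ P.S) : radIn (P.parabolic L) ≤ P.B := by
  obtain ⟨L', hL', hLe', hsol, -⟩ := radIn_sup P hBs hL
  have hL0 : L' = ∅ := by
    rw [Set.eq_empty_iff_forall_notMem]
    intro u hu
    exact hns u (hL (hL' hu)) (isSolvable_of_le (parabolic_mono P (Set.singleton_subset_iff.2 hu)) hsol)
  rw [hL0, parabolic_empty] at hLe'
  rw [← hLe']
  exact le_sup_left

theorem fix_nodes (hBs : Group.IsSolvable P.B) (hns : ∀ s ∈ P.S, ¬ Group.IsSolvable (P.parabolic {s}))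
    (h4 : 4 ≤ P.S.ncard) {y : MulAut K} (hy : RC y) (hyp : y ^ 3 = 1) (hB : Iv y P.B) :
    ∀ s ∈ P.S, Iv y (P.parabolic {s}) := by
  classical
  intro s hs
  obtain ⟨t, ht, hst⟩ := Cfsg.Agent.Schreier.BNSch.exists_map_eq P y hB.map_eq hs
  obtain ⟨u, hu, htu⟩ := Cfsg.Agent.Schreier.BNSch.exists_map_eq P y hB.map_eq ht
  have hus : (P.parabolic {u}).map y.toMonoidHom = P.parabolic {s} := by
    rw [← htu, ← hst, Subgroup.map_map, Subgroup.map_map]
    have e : y.toMonoidHom.comp (y.toMonoidHom.comp y.toMonoidHom) = MonoidHom.id K := by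
      ext a
      show y (y (y a)) = a
      have : (y ^ 3) a = a := by rw [hyp]; rfl
      rwa [pow_succ, pow_two] at this
    rw [MonoidHom.comp_assoc, e, Subgroup.map_id]
  set O : Set K := {s, t, u} with hO
  have hOS : O ⊆ P.S := by
    rintro v (rfl | rfl | rfl)
    · exact hs
    · exact ht
    · exact hu
  have hle : ∀ v ∈ O, P.parabolic {v} ≤ P.parabolic O := fun v hv =>
    parabolic_mono P (Set.singleton_subset_iff.2 hv)
  have hOy : Iv y (P.parabolic O) := by
    have h1 : P.parabolic O ≤ (P.parabolic O).comap y.toMonoidHom := by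
      refine sup_le ?_ ?_
      · intro b hb
        exact B_le_parabolic P _ (hB b hb)
      · rw [closure_le]
        rintro v (rfl | rfl | rfl)
        · have h2 : y v ∈ P.parabolic {t} := by rw [← hst]; exact ⟨v, mem_parabolic_self P v, rfl⟩
          exact hle t (Or.inr (Or.inl rfl)) h2
        · have h2 : y v ∈ P.parabolic {u} := by rw [← htu]; exact ⟨v, mem_parabolic_self P v, rfl⟩
          exact hle u (Or.inr (Or.inr rfl)) h2
        · have h2 : y v ∈ P.parabolic {s} := by rw [← hus]; exact ⟨v, mem_parabolic_self P v, rfl⟩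
          exact hle s (Or.inl rfl) h2
    exact h1
  have hOne : O ≠ P.S := by
    intro he
    have h1 : O.ncard ≤ 3 := by
      rw [hO]
      refine (Set.ncard_insert_le _ _).trans ?_
      have := Set.ncard_insert_le t ({u} : Set K)
      rw [Set.ncard_singleton] at this
      omega
    rw [he] at h1
    omega
  have hOt := parabolic_ne_top P hOS hOne
  intro m hm
  have h1 := rad_le_B P hBs hns hOS (hy _ hOt hOy m (hle s (Or.inl rfl) hm))
  have e : y m = m * (m⁻¹ * y m) := by group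
  rw [e]
  exact mul_mem hm (B_le_parabolic P _ h1)

/-- **A radical automorphism of order three fixing a proper parabolic subgroup is trivial** (rank at least four,
no solvable nodes). -/
theorem nonell_ns (hcore : P.B.normalCore = ⊥) {x : MulAut K} (h : RC x) (hxp : x ^ 3 = 1)
    (hBs : Group.IsSolvable P.B) (h4 : 4 ≤ P.S.ncard)
    (hns : ∀ s ∈ P.S, ¬ Group.IsSolvable (P.parabolic {s}))
    {M₀ : Subgroup K} (hBM : P.B ≤ M₀) (hM₀ : M₀ ≠ ⊤) {g₀ : K} (hg₀ : Iv (cx x g₀) M₀) : x = 1 := by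
  classical
  obtain ⟨J₀, hJ₀, rfl⟩ := Cfsg.Agent.S0311.result P M₀ hBM
  have hg : Iv (cx x g₀) P.B := by
    have h1 := iv_of_sub P (h.cx g₀) hM₀ (Set.empty_subset J₀) hg₀
      (by rw [parabolic_empty]; exact rad_le_B P hBs hns hJ₀)
    rwa [parabolic_empty] at h1
  have hyp : ∀ g, (cx x g) ^ 3 = 1 := by
    intro g
    have e : cx x g = (MulAut.conj g)⁻¹ * x * ((MulAut.conj g)⁻¹)⁻¹ := by rw [inv_inv]; rfl
    rw [e, conj_pow, hxp, mul_one, mul_inv_cancel]
  have hne : ∀ s ∈ P.S, ({s} : Set K) ≠ P.S := by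
    intro s hs he
    rw [← he, Set.ncard_singleton] at h4
    omega
  have hall := all_fixed P (h.cx g₀) hBs (fun s hs => parabolic_ne_top P (Set.singleton_subset_iff.2 hs) (hne s hs))
    (fun g' hg' => by
      rw [cx_cx] at hg' ⊢
      exact fix_nodes P hBs hns h4 (h.cx _) (hyp _) hg')
    (fun g' _ s hs hsol => absurd hsol (hns s hs)) hg
  have h1 := eq_one P hcore hall
  have h3 : x = MulAut.conj g₀ * cx x g₀ * (MulAut.conj g₀)⁻¹ := by
    unfold cx
    group
  rw [h3, h1, mul_one, mul_inv_cancel]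

end BN

open CoxeterSystem Cfsg.Agent.ChevalleyStructure.CoxeterGeom Cfsg.Agent.Tits.Roots
  Cfsg.Agent.Nodes.Reps Cfsg.Agent.Nodes.BNOf Cfsg.Agent.Nodes.LeviDec Cfsg.Agent.KFacts.RgdCharP
  Cfsg.Agent.KFacts.RgdVJ Cfsg.Agent.KFacts.RgdFilt Cfsg.Agent.KFacts.RgdBorelTits Cfsg.Agent.KFacts.RgdLieCharP

theorem nf_of_ns {G : Type*} [Group G] [Finite G] [IsSimpleGroup G] {r : ℕ} [Fact r.Prime] {l : ℕ}
    {M : CoxeterMatrix (Fin l)} {A : Fin l → Fin l → ℤ} {h : IsCartan M A} {T : Subgroup G} {n : Fin l → G}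
    {X : (Fin l → ℤ) → Subgroup G} (R : RGD M.toCoxeterSystem h r T n X) {F : (Fin l → ℤ) → ℝ → Subgroup G}
    (hW : Finite M.Group) (hX : Nodes.RGDLib.G1 M.toCoxeterSystem h X = ⊤) (hF : Filt R F) (hl : 4 ≤ l)
    (hE : Big r X)
    (hsol : ∀ U : Sylow r G, Group.IsSolvable (normalizer ((U : Subgroup G) : Set G)))
    (hsmall : r ≠ 2 → Small r G) : NF r 3 G := by
  classical
  intro x hxo hR hFx
  have hgen := Cfsg.Agent.Nodes.RGDLib.rgd_gen_of_G1 R hX
  set P := R.bnPair hgen with hP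
  have hne : P.S.Nonempty := ⟨n ⟨0, by omega⟩, ⟨0, by omega⟩, rfl⟩
  have hcore := Cfsg.Agent.Tits.OfBN.normalCore_eq_bot P hne
  have hsplit := SplitRGD.split_of_rgd Fact.out R hgen hcore
  obtain ⟨U', hU'⟩ := exists_sylow hsplit
  have hN : normalizer ((U' : Subgroup G) : Set G) = P.B := by rw [hU']; exact hsplit.normalizer_eq
  have hnorm : ∀ V : Subgroup G, V ≠ ⊥ → V ≠ ⊤ → normalizer (V : Set G) ≠ ⊤ := by
    intro V h1 h2 h3
    rcases (Subgroup.normalizer_eq_top_iff.1 h3).eq_bot_or_eq_top with h4 | h4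
    · exact h1 h4
    · exact h2 h4
  have hnB : n ⟨0, by omega⟩ ∉ P.B := not_mem_B P (mem_S R hgen)
  have hnp : ¬ IsPGroup r G := by
    intro hG
    have h1 : (⊤ : Subgroup G) = (U' : Subgroup G) := by
      have h2 : IsPGroup r (⊤ : Subgroup G) := hG.of_equiv Subgroup.topEquiv.symm
      exact U'.is_maximal' h2 le_top
    apply hnB
    rw [← hN]
    refine le_normalizer ?_
    rw [← h1]
    trivial
  obtain ⟨M₀, g₀, h1, h2, h3⟩ := exists_par R hgen
    (fun K hK h1 => borel_tits_of_filt hF hX hK h1) hnorm hnp hFx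
  have hx1 : x = 1 := by
    refine nonell_ns P hcore hR (by rw [← hxo]; exact pow_orderOf_eq_one x) ?_ ?_ ?_ h1 h2 h3
    · rw [← hN]
      exact hsol U'
    · rw [hP, ncard_S, Fintype.card_fin]
      exact hl
    · intro s hs hs'
      obtain ⟨i, rfl⟩ : ∃ i, n i = s := hs
      obtain ⟨h5, h6⟩ := hE i
      by_cases hr : r = 2
      · exact not_solvable_of_twoInv R hgen i (h6 hr) hs'
      · have h7 := hsmall hr U' (P.parabolic {n i}) (by rw [hN]; exact B_lt_parabolic P (mem_S R hgen))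
          (by rw [hN]; exact max_node P (mem_S R hgen)) hs'
        have h8 := le_index R hgen i
        rw [hN] at h7
        rw [← hP] at h8
        omega
  rw [hx1, orderOf_one] at hxo
  omega

section Orthogonal

open QuadraticMap
open Cfsg.Agent.Nodes.WittRoot Cfsg.Agent.Nodes.RGDLib Cfsg.Agent.Nodes.WittAll Cfsg.Agent.Nodes.WittU
  Cfsg.Agent.Nodes.WittInst
open Cfsg.Agent.TitsThree Cfsg.Agent.TitsThree.Siegel Cfsg.Agent.TitsThree.SiegelGen
open Cfsg.Agent.TitsThree.WittFrame Cfsg.Agent.TitsThree.WittWeyl Cfsg.Agent.TitsThree.FrameCN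
open Cfsg.Agent.LieClassical Cfsg.Agent.LieClassical.OrthCore Cfsg.Agent.LieClassical.OrthTrans
open Cfsg.Agent.LieClassical.OrthSimple Cfsg.Agent.LieClassical.OrthFinite
open Cfsg.Agent.LieClassical.OrthForms
open Cfsg.Agent.TitsThree.WBridge Cfsg.Agent.TitsThree.KSideO Cfsg.Agent.TitsThree.StdData
open Cfsg.Agent.Nodes Cfsg.Agent.Nodes.CardWitt Cfsg.Agent.Nodes.CardSup

variable {F : Type*} [Field F]

/-- **`PΩ⁺_{2n+6}(q)`, `q ≥ 4`** -/
theorem nf_PO_plus [Finite F] (n : ℕ) (hn : 1 ≤ n) {r : ℕ} [Fact r.Prime] [CharP F r] (hq : 4 ≤ Nat.card F)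
    {G : Type*} [Group G] [Finite G] [IsSimpleGroup G] (e : G ≃* Cfsg.POmega F (Cfsg.quadFormPlus (n + 3) F))
    (hsol : ∀ U : Sylow r G, Group.IsSolvable (normalizer ((U : Subgroup G) : Set G)))
    (hsmall : r ≠ 2 → Small r G) : NF r 3 G := by
  have hfG : Finite (Cfsg.POmega F (Cfsg.quadFormPlus (n + 3) F)) := by infer_instance
  rw [← coe_plusForm] at e hfG
  have hG : Good (plusForm (n + 3) F) := by
    apply good_of_finite (nondeg_plusForm (n + 3) F)
    rw [Module.finrank_fintype_fun_eq_card, Fintype.card_sum, Fintype.card_fin]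
    omega
  have hc : ∀ i j : Fin (n + 1 + 2), Nodes.TypeD.M (n + 1) i j ≤ 3 := by
    intro i j
    show (if i = j then 1 else if Nodes.TypeD.Adj i j ∨ Nodes.TypeD.Adj j i then 3 else 2) ≤ 3
    split_ifs <;> norm_num
  let cs := (Nodes.TypeD.M (n + 1)).toCoxeterSystem
  have : Finite (Nodes.TypeD.M (n + 1)).Group := Nodes.TypeD.finite_W cs
  have R := rgdD_model (p := r) (wplus (n + 3) F) hG (amb_plus _) (adm_plus _) (Nodes.TypeD.M (n + 1)).toCoxeterSystem
  have hF := (intComm_of_sl R (Cfsg.Agent.KFacts.RgdFiltWitt.sl_of_ne (fun i j h => by have := hc i j; omega)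
    (fun i j h => by have := hc i j; omega))).filt (R := R)
  have hX := G1D_eq_top (wplus (n + 3) F) (toPOmega hG) (toPOmega_surjective hG) (adm_plus _)
    (Nodes.TypeD.M (n + 1)).toCoxeterSystem
  refine nf_of_ns (Nodes.RGDLib.rgd_map_of_injective R e.symm.toMonoidHom e.symm.injective) ‹_› ?_
    (filt_map hF e.symm.toMonoidHom _) (by omega) (Big.map ?_ e.symm) hsol hsmall
  · rw [Nodes.RGDTypeA.G1_map, hX]
    exact Subgroup.map_top_of_surjective _ e.symm.surjective
  intro i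
  let V := (Fin (n + 3) ⊕ Fin (n + 3)) → F
  have : Finite (V ≃ₗ[F] V) := Finite.of_injective (fun g : V ≃ₗ[F] V => (g : V → V)) DFunLike.coe_injective
  have Rd := rgd_restrict (rgdD (amb_plus (n + 3)) (adm_plus (n + 3)) cs) (E (plusForm (n + 3) F))
    (fun x _ => rgD_le (wplus (n + 3) F) (amb_plus _) x) (fun i => WittRGDD.nn_mem (amb_plus _) i) (p := r)
  have h4 : 4 ≤ Nat.card (Nodes.WittInst.XD (wplus (n + 3) F) (toPOmega hG) (sr i)) := by
    refine le_trans hq (le_of_eq (Eq.symm ?_))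
    refine (card_map_X Rd (toPOmega hG) (ker_toPOmega hG) (isRoot_sr cs _ i)).trans ?_
    refine (Nat.card_congr (Subgroup.subgroupOfEquivOfLe (rgD_le (wplus (n + 3) F) (amb_plus _) (sr i))).toEquiv).trans ?_
    rw [WittRGDD.rg_sr]
    exact card_XG _ (Nodes.TypeD.ok_nx i)
  refine ⟨h4, fun hr => twoInv_of_exp h4 fun u hu => ?_⟩
  have := charP_two (F := F) hr
  obtain ⟨v, hv, rfl⟩ := hu
  change v ∈ (Nodes.WittRGDD.rg (toFrame (wplus (n + 3) F)) (sr i)).subgroupOf (E (plusForm (n + 3) F)) at hv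
  rw [Subgroup.mem_subgroupOf, Nodes.WittRGDD.rg_sr] at hv
  obtain ⟨t, ht⟩ := hv
  rw [← map_pow]
  have h1 : v ^ 2 = 1 := by
    apply Subtype.ext
    show (v : V ≃ₗ[F] V) ^ 2 = 1
    rw [ht]
    exact sq_of_add (f := (toFrame (wplus (n + 3) F)).X (i, true) (Nodes.TypeD.nx i))
      ((toFrame (wplus (n + 3) F)).X_add _ _) t
  rw [h1, map_one]

end Orthogonal

end Cfsg.Agent.H959.Rad3.NonSol
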