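import Mathlib
import Cfsg.Agent.H959.Rad3.D4
import Cfsg.Agent.H959.Rad3.Alt
import Cfsg.Agent.H454.PslThree
import Cfsg.Agent.H454.PsuThree
import Cfsg.Agent.H855.Rad3.LThree
import Cfsg.Agent.H855.Rad3.SpFour
import Cfsg.Agent.H372.Rad3U2
import Cfsg.Agent.H216.Rad3.SpSix
import Cfsg.Agent.H872.Rad3.O8p
import Cfsg.Agent.H872.Rad3.Minus
import Cfsg.Agent.H651.Rad3.G23
import Cfsg.Agent.H640.TD.Row
import Cfsg.Agent.H3.D43.Row
import Cfsg.Agent.H621.Rad3.Psl
import Cfsg.Agent.H746.PslThree.Row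
import Cfsg.Agent.H858.FixPsu
import Cfsg.Agent.H65.Disp.Tri
import Cfsg.Agent.S0255
import Cfsg.Agent.S0256

/-!
# Elements of order three: the groups of Lie type of rank at least two (helper959, S3854, S3832, S4336)

`row_big` : `Row3 K` for `IsBig r K`, from `NF r 3 K` (`Node`, `NonSol`, `D4`), `FixAt r K` and the rows of the small
groups.
-/

set_option autoImplicit false
set_option linter.unusedSectionVars false

namespace Cfsg.Agent.H959.Rad3.RowLie

open Cfsg Subgroup Cfsg.Agent.H459.Rad Cfsg.Agent.H459.Iface Cfsg.Agent.H459.SmallNode Cfsg.Agent.H459.NonFix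
open Cfsg.Agent.H959.Rad3.Node

universe u

theorem irow_of_nf {K : Type*} [Group K] {r : ℕ} (hN : NF r 3 K) (hF : FixAt r K) : IRow K :=
  fun x hx hR hI => hN x hx hR (hF x hx hR hI)

/-- the hypotheses on the Sylow `r`-subgroups and nodes -/
structure Hyp (r : ℕ) [Fact r.Prime] (K : Type u) [Group K] [Finite K] : Prop where
  sol : ∀ U : Sylow r K, Group.IsSolvable (normalizer ((U : Subgroup K) : Set K))
  small : r ≠ 2 → Small r K
  self : ∀ x : MulAut K, orderOf x = r → FixR r x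

variable {K : Type u} [Group K] [Finite K] [IsSimpleGroup K] {r : ℕ} [hr : Fact r.Prime]

theorem fixAt_of (H : Hyp r K) (h : r ≠ 3 → FixAt r K) : FixAt r K := by
  by_cases h3 : r = 3
  · subst h3
    exact fun x hx _ _ => H.self x hx
  · exact h h3

theorem irow_of (H : Hyp r K) (hG : HasFilt3 r K) (h : r ≠ 3 → FixAt r K) : IRow K :=
  irow_of_nf (hG.nf H.sol H.small) (fixAt_of H h)

/-- `PSL_n(q)`, `n ≥ 3` -/
theorem row_psl (H : Hyp r K) {F : Type} [Field F] [Fintype F] [CharP F r] {n : ℕ} (hn : 3 ≤ n)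
    (e : K ≃* Matrix.ProjectiveSpecialLinearGroup (Fin n) F) : Row3 K := by
  have hF2 : 1 < Fintype.card F := Fintype.one_lt_card
  obtain ⟨m, rfl⟩ : ∃ k, n = k + 1 := ⟨n - 1, by omega⟩
  have hfin : Finite (Matrix.ProjectiveSpecialLinearGroup (Fin (m + 1)) F) := Quotient.finite _
  have hgen : ((m = 2 ∨ (m = 3 ∧ r = 2)) → 4 ≤ Nat.card F) → (r ≠ 3 → FixAt r K) → Row3 K := fun hq hfix =>
    (irow_of H ((f_PSL m (by omega) hq).of_equiv e.symm) hfix).row3
  rcases (show m = 2 ∨ m = 3 ∨ 4 ≤ m by omega) with rfl | rfl | hm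
  · rcases (show Fintype.card F = 2 ∨ Fintype.card F = 3 ∨ 4 ≤ Fintype.card F by omega) with h | h | h
    · have : Fact (Nat.Prime 7) := ⟨by norm_num⟩
      obtain ⟨f⟩ := Cfsg.Agent.S0255.result (F := ZMod 7) (K := F) (by rw [ZMod.card]) h
      exact (Cfsg.Agent.H454.PslThree.irow_psl2 ⟨e.trans f.symm⟩).row3
    · exact Cfsg.Agent.H855.Rad3.LThree.row_psl33 h ⟨e⟩
    · exact hgen (fun _ => by rw [Nat.card_eq_fintype_card]; exact h) fun h3 =>
        Cfsg.Agent.H746.PslThree.fixAt_psl3 h3 ⟨e⟩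
  · rcases (show Fintype.card F = 2 ∨ Fintype.card F = 3 ∨ 4 ≤ Fintype.card F by omega) with h | h | h
    · obtain ⟨f⟩ := Cfsg.Agent.S0256.result h
      exact (IRow.congr (e.trans f) (Alt.irow_alt (by norm_num))).row3
    · refine hgen ?_ fun h3 => Cfsg.Agent.H621.Rad3.fixAt_psl (by norm_num) h3 ⟨e⟩
      rintro (h4 | ⟨-, h4⟩)
      · omega
      · exfalso
        subst h4
        obtain ⟨k, -, hk⟩ := FiniteField.card F 2
        rw [hk] at h
        have h6 : Even (2 ^ (k : ℕ)) := (even_two).pow_of_ne_zero k.ne_zero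
        rw [h] at h6
        exact absurd h6 (by decide)
    · exact hgen (fun _ => by rw [Nat.card_eq_fintype_card]; exact h) fun h3 =>
        Cfsg.Agent.H621.Rad3.fixAt_psl (by norm_num) h3 ⟨e⟩
  · exact hgen (fun h => by omega) fun h3 => Cfsg.Agent.H621.Rad3.fixAt_psl (by omega) h3 ⟨e⟩

theorem card_ne_three {F : Type} [Field F] [Fintype F] [CharP F 2] : Fintype.card F ≠ 3 := by
  intro h
  obtain ⟨k, -, hk⟩ := FiniteField.card F 2
  rw [hk] at h
  have h6 : Even (2 ^ (k : ℕ)) := (even_two).pow_of_ne_zero k.ne_zero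
  rw [h] at h6
  exact absurd h6 (by decide)

/-- `PSp_2m(q)`, `m ≥ 2` -/
theorem row_psp (H : Hyp r K) (h : IsPSpChar r K) : Row3 K := by
  have hfix := Cfsg.Agent.H107.FixThree.fixAt_psp (r := r) h
  obtain ⟨F, _, _, _, m, hm, hm2, ⟨e⟩⟩ := h
  have hF2 : 1 < Fintype.card F := Fintype.one_lt_card
  have hfin : Finite (PSp m F) := Quotient.finite _
  by_cases h1 : m = 2 ∧ Fintype.card F = 3
  · obtain ⟨rfl, h3⟩ := h1
    exact Cfsg.Agent.H855.Rad3.SpFour.row_psp43 h3 ⟨e⟩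
  by_cases h2 : m = 3 ∧ Fintype.card F = 2
  · obtain ⟨rfl, h3⟩ := h2
    exact (Cfsg.Agent.H216.Rad3.SpSix.irow_sp62 h3 ⟨e⟩).row3
  refine (irow_of H ((f_PSp hm ?_).of_equiv e.symm) hfix).row3
  rw [Nat.card_eq_fintype_card]
  rintro (h3 | ⟨h3, h4⟩)
  · have := hm2 h3
    omega
  · subst h4
    have := card_ne_three (F := F)
    omega

/-- `PSU_n(q)`, `n ≥ 4` -/
theorem row_psu (H : Hyp r K) {F : Type} [Field F] [Fintype F] [CharP F r] {n q : ℕ} (hF : Fintype.card F = q ^ 2)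
    (hn : 4 ≤ n) (e : K ≃* PSU n F q) : Row3 K := by
  have hF2 : 1 < Fintype.card F := Fintype.one_lt_card
  have hfix := Cfsg.Agent.H858.FixPsu.fixAt_psu (r := r) (K := K) hF hn
  have hfin : Finite (PSU n F q) := Quotient.finite _
  have hq2 : 2 ≤ q := by
    by_contra hcon
    have : q ≤ 1 := by omega
    have h1 : q ^ 2 ≤ 1 ^ 2 := Nat.pow_le_pow_left this 2
    omega
  -- `q` is a power of `r`
  have hq3 : r = 2 → q ≠ 3 := by
    rintro rfl rfl
    obtain ⟨k, -, hk⟩ := FiniteField.card F 2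
    rw [hk] at hF
    have h6 : Even (2 ^ (k : ℕ)) := (even_two).pow_of_ne_zero k.ne_zero
    rw [hF] at h6
    exact absurd h6 (by decide)
  by_cases hq : q = 2
  · subst hq
    rcases hn.eq_or_lt with rfl | hn
    · exact Cfsg.Agent.H855.Rad3.SpFour.row_psu42 (by rw [hF]; norm_num) ⟨e⟩
    · exact (Cfsg.Agent.H372.Rad3U.irow_psu52 hn (by rw [hF]; norm_num) ⟨e⟩).row3
  by_cases h43 : n = 4 ∧ q = 3
  · obtain ⟨rfl, rfl⟩ := h43
    exact (Cfsg.Agent.H454.PsuThree.irow_psu43 (by rw [hF]; norm_num) ⟨e⟩).row3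
  rcases Nat.even_or_odd' n with ⟨m, rfl | rfl⟩
  · refine (irow_of H ((f_PSU_even hF (by omega) ?_).of_equiv e.symm) fun h3 => hfix h3 ⟨e⟩).row3
    rintro (h | ⟨h, h2⟩)
    · omega
    · have := hq3 h2
      omega
  · refine (irow_of H ((f_PSU_odd hF (by omega) ?_).of_equiv e.symm) fun h3 => hfix h3 ⟨e⟩).row3
    intro _
    refine ⟨hq2, fun h2 => ?_⟩
    have := hq3 h2
    omega

/-- `PΩ_{2m+1}(q)` -/
theorem row_odd (H : Hyp r K) (h : IsPOmegaOddChar r K) : Row3 K := by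
  have hfix := Cfsg.Agent.H107.FixThree.fixAt_omega_odd (r := r) h
  obtain ⟨F, _, _, _, m, hm, hodd, ⟨e⟩⟩ := h
  have hfin : Finite (Cfsg.POmega F (Cfsg.quadFormOdd m F)) := Quotient.finite _
  have h2 : (2 : F) ≠ 0 := by
    intro h2
    have h3 : CharP F 2 := CharTwo.of_one_ne_zero_of_two_eq_zero one_ne_zero h2
    obtain ⟨k, -, hk⟩ := FiniteField.card F 2
    rw [hk] at hodd
    exact absurd hodd (by
      rw [Nat.not_odd_iff_even]
      exact (even_two).pow_of_ne_zero k.ne_zero)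
  exact (irow_of H ((f_PO_odd h2 hm).of_equiv e.symm) hfix).row3

/-- `PΩ⁻_{2m}(q)` -/
theorem row_minus (H : Hyp r K) (h : IsPOmegaMinusChar r K) : Row3 K := by
  have hfix := Cfsg.Agent.H107.FixThree.fixAt_omega_minus (r := r) h
  obtain ⟨F, _, _, _, m, a, b, hm, hab, ⟨e⟩⟩ := h
  have hF2 : 1 < Fintype.card F := Fintype.one_lt_card
  have hfin : Finite (Cfsg.POmega F (Cfsg.quadFormMinus (m - 1) F a b)) := Quotient.finite _
  by_cases h2 : m = 4 ∧ Fintype.card F = 2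
  · obtain ⟨rfl, h3⟩ := h2
    exact (Cfsg.Agent.H872.Rad3.irow_o8m2 h3 hab ⟨e⟩).row3
  refine (irow_of H ((f_PO_minus a b hab (by omega) ?_).of_equiv e.symm) hfix).row3
  rw [Nat.card_eq_fintype_card]
  rintro ⟨h3, h4⟩
  subst h4
  have := card_ne_three (F := F)
  omega

/-- `PΩ⁺_{2m}(q)` -/
theorem row_plus (H : Hyp r K) (h : IsPOmegaPlusChar r K) : Row3 K := by
  obtain ⟨F, _, _, _, m, hm, ⟨e⟩⟩ := h
  have hF2 : 1 < Fintype.card F := Fintype.one_lt_card
  have hfin : Finite (Cfsg.POmega F (Cfsg.quadFormPlus m F)) := Quotient.finite _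
  rcases hm.eq_or_lt with rfl | hm
  · by_cases h2 : Fintype.card F = 2
    · exact (Cfsg.Agent.H872.Rad3.irow_o8p2 h2 ⟨e⟩).row3
    · intro x hx hR _
      refine D4.norc_o8 (r := r) (F := F) (by rw [Nat.card_eq_fintype_card]; omega) H.sol H.small ?_ e hx hR
      rintro rfl x hx
      exact H.self x hx
  · obtain ⟨n, rfl⟩ : ∃ n, m = n + 3 := ⟨m - 3, by omega⟩
    exact (irow_of H ((f_PO_plus n (by omega)).of_equiv e.symm) fun h3 =>
      Cfsg.Agent.H107.FixThree.fixAt_omega_plus (by omega) ⟨e⟩ h3).row3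

/-- the exceptional Chevalley groups -/
theorem row_exc (H : Hyp r K) (h : IsExceptionalChevChar r K) : Row3 K := by
  obtain ⟨F, _, _, _, h⟩ := h
  have hF2 : 1 < Fintype.card F := Fintype.one_lt_card
  rcases h with ⟨h3, ⟨e⟩⟩ | ⟨⟨e⟩⟩ | ⟨⟨e⟩⟩ | ⟨⟨e⟩⟩ | ⟨⟨e⟩⟩
  · rcases h3.eq_or_lt with h3 | h3
    · exact (Cfsg.Agent.H651.Rad3.G23.irow_g23 h3.symm ⟨e⟩).row3
    · have ht : Nodes.RGDChev.IsType Lie.chevG2 2 CoxeterMatrix.G₂ := by
        simp [Nodes.RGDChev.IsType, Nodes.RGDChev.typeList]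
      exact (irow_of H ((f_group ht (by norm_num) F r (fun h => absurd h (by norm_num))
        (fun _ => by rw [Nat.card_eq_fintype_card]; omega)).of_equiv e.symm) fun _ =>
          H65.Disp.Tri.fixAt_chev ht ⟨e⟩).row3
  · have ht : Nodes.RGDChev.IsType Lie.chevF4 4 CoxeterMatrix.F₄ := by
      simp [Nodes.RGDChev.IsType, Nodes.RGDChev.typeList]
    exact (irow_of H ((f_group ht (by norm_num) F r (fun _ => by decide +kernel) (fun h => by omega)).of_equiv e.symm)
      fun _ => H65.Disp.Tri.fixAt_chev ht ⟨e⟩).row3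
  · have ht : Nodes.RGDChev.IsType Lie.chevE6 6 CoxeterMatrix.E₆ := by
      simp [Nodes.RGDChev.IsType, Nodes.RGDChev.typeList]
    exact (irow_of H ((f_group ht (by norm_num) F r (fun _ => by decide +kernel) (fun h => by omega)).of_equiv e.symm)
      fun _ => H65.Disp.Tri.fixAt_chev ht ⟨e⟩).row3
  · have ht : Nodes.RGDChev.IsType Lie.chevE7 7 CoxeterMatrix.E₇ := by
      simp [Nodes.RGDChev.IsType, Nodes.RGDChev.typeList]
    exact (irow_of H ((f_group ht (by norm_num) F r (fun _ => by decide +kernel) (fun h => by omega)).of_equiv e.symm)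
      fun _ => H65.Disp.Tri.fixAt_chev ht ⟨e⟩).row3
  · have ht : Nodes.RGDChev.IsType Lie.chevE8 8 CoxeterMatrix.E₈ := by
      simp [Nodes.RGDChev.IsType, Nodes.RGDChev.typeList]
    exact (irow_of H ((f_group ht (by norm_num) F r (fun _ => by decide +kernel) (fun h => by omega)).of_equiv e.symm)
      fun _ => H65.Disp.Tri.fixAt_chev ht ⟨e⟩).row3

/-- `²E₆(q)`, `³D₄(q)` -/
theorem row_tw (H : Hyp r K) (h : IsTwistedE6D4Char r K) : Row3 K := by
  obtain ⟨F, _, _, _, q, hq, ⟨hF, ⟨e⟩⟩ | ⟨hF, ⟨e⟩⟩⟩ := h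
  · exact (irow_of H ((f_twE6 hq hF r).of_equiv e.symm) fun _ => H65.Disp.Tri.fixAt_twE6 hq hF ⟨e⟩).row3
  · have hfix : FixAt r K := H65.Disp.Tri.fixAt_twD4 hq hF ⟨e⟩
    have hq2 := hq.two_le
    rcases (show q = 2 ∨ q = 3 ∨ 4 ≤ q by omega) with rfl | rfl | h
    · have h2 : r = 2 := by
        obtain ⟨k, -, hk⟩ := FiniteField.card F r
        have h3 : r ∣ 2 ^ 3 := by rw [← hF, hk]; exact dvd_pow_self r k.ne_zero
        exact (Nat.prime_dvd_prime_iff_eq hr.out Nat.prime_two).1 (hr.out.dvd_of_dvd_pow h3)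
      subst h2
      exact (H640.TD.irow_of_fix (by rw [hF]; norm_num) ⟨e⟩ hfix).row3
    · exact (H3.D43.irow_3d43 (by rw [hF]; norm_num) ⟨e⟩).row3
    · exact (irow_of H ((f_twD4 hq hF h r).of_equiv e.symm) fun _ => hfix).row3

/-- **the rows of the groups of Lie type of rank at least two** -/
theorem row_big (H : Hyp r K) (hB : IsBig r K) : Row3 K := by
  rcases hB with h | h | h | h | h | h | h | h
  · obtain ⟨F, _, _, _, n, hn, ⟨e⟩⟩ := h
    exact row_psl H hn e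
  · exact row_psp H h
  · obtain ⟨F, _, _, _, n, q, hF, hn, ⟨e⟩⟩ := h
    exact row_psu H hF hn e
  · exact row_odd H h
  · exact row_plus H h
  · exact row_minus H h
  · exact row_exc H h
  · exact row_tw H h

end Cfsg.Agent.H959.Rad3.RowLie
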