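import Mathlib
import Cfsg.Agent.S0199
import Cfsg.Agent.H459.Reduce
import Cfsg.Agent.H959.Rad3.Iface

/-!
# Elements of odd order generating solvable groups with the 2-elements: reduction to simple groups (helper959, S3854)

`TG x` : `⟨x, y⟩` is solvable for every `2`-element `y` of `G`.
* `reduction` : `x` of odd prime order with `TG x` lies in the solvable radical, provided that no non-abelian simple group
  `K` has an automorphism `x` of odd prime order with `RC x` and `T2 x` (`FT` is the odd order theorem);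
* `reduction_odd` : the same for `x` of odd order.
-/

set_option autoImplicit false
set_option linter.unusedSectionVars false

namespace Cfsg.Agent.H959.Rad3.Red

open Cfsg Subgroup Cfsg.Agent.SignalizersComponents.ComponentExists Cfsg.Agent.H459.Rad Cfsg.Agent.H459.Reduce
open Cfsg.Agent.SignalizersComponents.Components Cfsg.Agent.H959.Rad3
open scoped commutatorElement

universe u

/-- `⟨x, y⟩` is solvable for every `2`-element `y` -/
def TG {G : Type*} [Group G] (x : G) : Prop :=
  ∀ y : G, (∃ k : ℕ, y ^ 2 ^ k = 1) → Group.IsSolvable ↥(closure ({x, y} : Set G))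

/-- lifting `2`-elements -/
theorem exists_lift {G H : Type*} [Group G] [Finite G] [Group H] {f : G →* H} (hf : Function.Surjective f) {y : H}
    {k : ℕ} (hy : y ^ 2 ^ k = 1) : ∃ z : G, f z = y ∧ ∃ l : ℕ, z ^ 2 ^ l = 1 := by
  obtain ⟨g, rfl⟩ := hf y
  obtain ⟨a, m, hm, ham⟩ := Nat.exists_eq_two_pow_mul_odd (orderOf_pos g).ne'
  have hcop : Nat.Coprime (2 ^ k) m := Nat.Coprime.pow_left k (Nat.coprime_two_left.2 hm)
  obtain ⟨e, he1, he2⟩ := Nat.chineseRemainder hcop 1 0
  refine ⟨g ^ e, ?_, a, ?_⟩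
  · rw [map_pow]
    have h1 : f g ^ e = f g ^ 1 := by
      rw [pow_eq_pow_iff_modEq]
      exact he1.of_dvd (orderOf_dvd_of_pow_eq_one hy)
    rw [h1, pow_one]
  · rw [← pow_mul]
    apply orderOf_dvd_iff_pow_eq_one.1
    rw [ham, mul_comm]
    exact Nat.mul_dvd_mul ((Nat.modEq_zero_iff_dvd).1 he2) dvd_rfl

theorem TG.map {G H : Type*} [Group G] [Finite G] [Group H] {x : G} (h : TG x) {f : G →* H}
    (hf : Function.Surjective f) : TG (f x) := by
  rintro y ⟨k, hk⟩
  obtain ⟨z, rfl, hz⟩ := exists_lift hf hk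
  have h1 := h z hz
  have h2 : (closure ({x, z} : Set G)).map f = closure ({f x, f z} : Set H) := by
    rw [MonoidHom.map_closure, Set.image_pair]
  rw [← h2]
  exact isSolvable_map h1 _

theorem TG.subtype {G : Type*} [Group G] {H : Subgroup G} {x : H} (h : TG (x : G)) : TG x := by
  rintro y ⟨k, hk⟩
  have h1 := h (y : G) ⟨k, by rw [← Subgroup.coe_pow, hk, Subgroup.coe_one]⟩
  have h2 : (closure ({x, y} : Set H)).map H.subtype = closure ({(x : G), (y : G)} : Set G) := by
    rw [MonoidHom.map_closure, Set.image_pair]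
    rfl
  rw [← h2] at h1
  exact Group.isSolvable_of_isSolvable_injective
    (f := ((closure ({x, y} : Set H)).equivMapOfInjective H.subtype H.subtype_injective).toMonoidHom)
    (MulEquiv.injective _)

theorem TG.pow {G : Type*} [Group G] {x : G} (h : TG x) (n : ℕ) : TG (x ^ n) := by
  intro y hy
  refine isSolvable_of_le ?_ (h y hy)
  rw [closure_le]
  rintro z (rfl | rfl)
  · exact pow_mem (subset_closure (by simp)) n
  · exact subset_closure (by simp)

section Comp

variable {G : Type u} [Group G] [Finite G]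

/-- a component, an element moving it -/
theorem moved3 {p : ℕ} [Fact p.Prime] (hp2 : p ≠ 2) (hR : solvableRadical G = ⊥) {x : G}
    (hx : x ^ p = 1) {L : Subgroup G} (hL : IsComponent L) (hm : x ∉ normalizer (L : Set G)) (h : TG x)
    {a b c : L} (ha : ∃ k : ℕ, a ^ 2 ^ k = 1) (hb : ∃ k : ℕ, b ^ 2 ^ k = 1) (hc : ∃ k : ℕ, c ^ 2 ^ k = 1)
    (habc : ¬ Group.IsSolvable (closure ({a, b, c} : Set L))) : False := by
  have hcen := component_center hR hL
  set N := normalizer (L : Set G) with hN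
  set ρ : N →* MulAut L := L.normalizerMonoidHom with hρ
  have hLN : L ≤ N := le_normalizer
  have hinj : Function.Injective (MulAut.conj : L →* MulAut L) := by
    rw [← MonoidHom.ker_eq_bot_iff, eq_bot_iff, ← hcen]
    intro z hz
    rw [mem_center_iff]
    intro l
    have h1 : MulAut.conj z l = l := by rw [MonoidHom.mem_ker.1 hz]; rfl
    rw [MulAut.conj_apply] at h1
    calc l * z = (z * l * z⁻¹) * z := by rw [h1]
      _ = z * l := by group
  have hρL : ∀ l : L, ρ ⟨l, hLN l.2⟩ = MulAut.conj l := by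
    intro l
    ext y
    rfl
  have hρC : ∀ (y : G) (hy : y ∈ N), (∀ l ∈ L, y * l = l * y) → ρ ⟨y, hy⟩ = 1 := by
    intro y hy hc
    ext l
    change y * l * y⁻¹ = l
    rw [hc l l.2]; group
  have hcN : ∀ y : G, (∀ l ∈ L, y * l = l * y) → y ∈ N := by
    intro y hy
    rw [hN, Subgroup.mem_normalizer_iff]
    intro l
    constructor
    · intro hl
      rw [hy l hl]; simpa using hl
    · intro hl
      have h1 := hy _ hl
      have h2 : y * l * y⁻¹ = l := by
        have h3 : y * (y * l * y⁻¹) = (y * l * y⁻¹) * y := h1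
        have h4 : y * (y * l * y⁻¹) = y * l := by rw [h3]; group
        exact mul_left_cancel h4
      rwa [h2] at hl
  -- conjugates of `L`
  have hodd : Odd p := (Fact.out : p.Prime).odd_of_ne_two hp2
  have hx1 : cj x L ≠ L := fun h1 => hm (mem_normalizer_of_cj h1)
  have hxi : cj x⁻¹ L ≠ L := by
    intro h1
    have h2 := mem_normalizer_of_cj h1
    exact hm (by simpa using inv_mem h2)
  have hx2N : x * x ∉ N := by
    intro h2
    apply hm
    obtain ⟨m, hm'⟩ := hodd
    have h3 : (x * x) ^ (m + 1) = x := by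
      rw [← pow_two, ← pow_mul]
      have : 2 * (m + 1) = p + 1 := by omega
      rw [this, pow_succ, hx, one_mul]
    rw [← h3]
    exact pow_mem h2 _
  have hx2 : cj (x * x) L ≠ L := fun h1 => hx2N (mem_normalizer_of_cj h1)
  have hxi2 : cj (x * x)⁻¹ L ≠ L := by
    intro h1
    have h2 := mem_normalizer_of_cj h1
    exact hx2N (by simpa using inv_mem h2)
  have cm : ∀ g : G, cj g L ≠ L → ∀ y ∈ L, ∀ l ∈ L, (g * y * g⁻¹) * l = l * (g * y * g⁻¹) := fun g hg y hy l hl =>
    comm_of_cj_ne hL hg (conj_mem_cj hy) hl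
  -- the `2`-element
  set y : G := a * (x * b * x⁻¹) * (x * x * c * (x * x)⁻¹) with hy
  have hy2 : ∃ k : ℕ, y ^ 2 ^ k = 1 := by
    obtain ⟨k1, h1⟩ := ha
    obtain ⟨k2, h2⟩ := hb
    obtain ⟨k3, h3⟩ := hc
    have c1 : Commute (a : G) (x * b * x⁻¹) := (cm x hx1 b b.2 a a.2).symm
    have c2 : Commute (a : G) (x * x * c * (x * x)⁻¹) := (cm (x * x) hx2 c c.2 a a.2).symm
    have c3 : Commute (x * b * x⁻¹) (x * x * c * (x * x)⁻¹) := by
      have h4 := cm x hx1 c c.2 b b.2
      have h5 : x * (x * c * x⁻¹ * b) * x⁻¹ = x * (b * (x * c * x⁻¹)) * x⁻¹ := by rw [h4]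
      show x * b * x⁻¹ * (x * x * c * (x * x)⁻¹) = x * x * c * (x * x)⁻¹ * (x * b * x⁻¹)
      calc x * b * x⁻¹ * (x * x * c * (x * x)⁻¹) = x * (b * (x * c * x⁻¹)) * x⁻¹ := by group
        _ = x * (x * c * x⁻¹ * b) * x⁻¹ := h5.symm
        _ = x * x * c * (x * x)⁻¹ * (x * b * x⁻¹) := by group
    refine ⟨k1 + k2 + k3, ?_⟩
    have e1 : (a : G) ^ 2 ^ (k1 + k2 + k3) = 1 := by
      have h1' : (a : G) ^ 2 ^ k1 = 1 := by rw [← Subgroup.coe_pow, h1, Subgroup.coe_one]
      rw [add_assoc, pow_add, pow_mul, h1', one_pow]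
    have e2 : (x * b * x⁻¹) ^ 2 ^ (k1 + k2 + k3) = 1 := by
      have h2' : (b : G) ^ 2 ^ k2 = 1 := by rw [← Subgroup.coe_pow, h2, Subgroup.coe_one]
      rw [conj_pow, show k1 + k2 + k3 = k2 + (k1 + k3) by omega, pow_add, pow_mul, h2', one_pow]
      group
    have e3 : (x * x * c * (x * x)⁻¹) ^ 2 ^ (k1 + k2 + k3) = 1 := by
      have h3' : (c : G) ^ 2 ^ k3 = 1 := by rw [← Subgroup.coe_pow, h3, Subgroup.coe_one]
      rw [conj_pow, show k1 + k2 + k3 = k3 + (k1 + k2) by omega, pow_add, pow_mul, h3', one_pow]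
      group
    rw [hy, (c2.mul_left c3).mul_pow, c1.mul_pow, e1, e2, e3]
    simp
  have hS := h y hy2
  set S := closure ({x, y} : Set G) with hSdef
  have hxS : x ∈ S := subset_closure (by simp)
  have hyS : y ∈ S := subset_closure (by simp)
  have hy1S : x⁻¹ * y * x ∈ S := mul_mem (mul_mem (inv_mem hxS) hyS) hxS
  have hy2S : (x * x)⁻¹ * y * (x * x) ∈ S := mul_mem (mul_mem (inv_mem (mul_mem hxS hxS)) hyS) (mul_mem hxS hxS)
  have e0 : y = a * (x * b * x⁻¹) * (x * x * c * (x * x)⁻¹) := rfl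
  have e1 : x⁻¹ * y * x = (x⁻¹ * a * x⁻¹⁻¹) * b * (x * c * x⁻¹) := by rw [hy]; group
  have e2 : (x * x)⁻¹ * y * (x * x) = ((x * x)⁻¹ * a * (x * x)⁻¹⁻¹) * (x⁻¹ * b * x⁻¹⁻¹) * c := by rw [hy]; group
  have mb := hcN _ (cm x hx1 b b.2)
  have mc := hcN _ (cm (x * x) hx2 c c.2)
  have ma1 := hcN _ (cm x⁻¹ hxi a a.2)
  have mc1 := hcN _ (cm x hx1 c c.2)
  have ma2 := hcN _ (cm (x * x)⁻¹ hxi2 a a.2)
  have mb2 := hcN _ (cm x⁻¹ hxi b b.2)
  have hyN : y ∈ N := by rw [e0]; exact mul_mem (mul_mem (hLN a.2) mb) mc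
  have hy1N : x⁻¹ * y * x ∈ N := by rw [e1]; exact mul_mem (mul_mem ma1 (hLN b.2)) mc1
  have hy2N : (x * x)⁻¹ * y * (x * x) ∈ N := by rw [e2]; exact mul_mem (mul_mem ma2 mb2) (hLN c.2)
  have r0 : ρ ⟨_, hyN⟩ = MulAut.conj a := by
    have : (⟨_, hyN⟩ : N) = ⟨a, hLN a.2⟩ * ⟨_, mb⟩ * ⟨_, mc⟩ := Subtype.ext e0
    rw [this, map_mul, map_mul, hρL, hρC _ mb (cm x hx1 b b.2), hρC _ mc (cm (x * x) hx2 c c.2), mul_one, mul_one]
  have r1 : ρ ⟨_, hy1N⟩ = MulAut.conj b := by
    have : (⟨_, hy1N⟩ : N) = ⟨_, ma1⟩ * ⟨b, hLN b.2⟩ * ⟨_, mc1⟩ := Subtype.ext e1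
    rw [this, map_mul, map_mul, hρL, hρC _ ma1 (cm x⁻¹ hxi a a.2), hρC _ mc1 (cm x hx1 c c.2), mul_one, one_mul]
  have r2 : ρ ⟨_, hy2N⟩ = MulAut.conj c := by
    have : (⟨_, hy2N⟩ : N) = ⟨_, ma2⟩ * ⟨_, mb2⟩ * ⟨c, hLN c.2⟩ := Subtype.ext e2
    rw [this, map_mul, map_mul, hρL, hρC _ ma2 (cm (x * x)⁻¹ hxi2 a a.2), hρC _ mb2 (cm x⁻¹ hxi b b.2), one_mul,
      one_mul]
  have h3 : Group.IsSolvable ↥((S.subgroupOf N).map ρ) := by
    refine isSolvable_map ?_ _
    let f : ↥(S.subgroupOf N) →* ↥S := (N.subtype.comp (S.subgroupOf N).subtype).codRestrict S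
      fun s => s.2
    refine Group.isSolvable_of_isSolvable_injective (f := f) ?_
    intro s t hst
    have h4 : ((s : N) : G) = ((t : N) : G) := congrArg (fun z : ↥S => (z : G)) hst
    exact Subtype.ext (Subtype.ext h4)
  have h4 : (closure ({a, b, c} : Set L)).map (MulAut.conj : L →* MulAut L) ≤ (S.subgroupOf N).map ρ := by
    rw [MonoidHom.map_closure, closure_le]
    rintro _ ⟨y', (rfl | rfl | rfl), rfl⟩
    · exact ⟨⟨_, hyN⟩, hyS, r0⟩
    · exact ⟨⟨_, hy1N⟩, hy1S, r1⟩
    · exact ⟨⟨_, hy2N⟩, hy2S, r2⟩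
  have h5 := isSolvable_of_le h4 h3
  exact habc (Group.isSolvable_of_isSolvable_injective
    (f := ((closure ({a, b, c} : Set L)).equivMapOfInjective _ hinj).toMonoidHom) (MulEquiv.injective _))

/-- three `2`-elements of a simple group generating a non-solvable subgroup -/
theorem exists_three [IsSimpleGroup G] (hna : ¬ Group.IsSolvable G)
    (FT : Odd (Nat.card G) → Group.IsSolvable G)
    (ih : ∀ (p : ℕ), p.Prime → p ≠ 2 → ∀ z : G, orderOf z = p → TG z → z ∈ solvableRadical G) :
    ∃ a b c : G, (∃ k : ℕ, a ^ 2 ^ k = 1) ∧ (∃ k : ℕ, b ^ 2 ^ k = 1) ∧ (∃ k : ℕ, c ^ 2 ^ k = 1) ∧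
      ¬ Group.IsSolvable (closure ({a, b, c} : Set G)) := by
  classical
  have h2 : Fact (Nat.Prime 2) := ⟨Nat.prime_two⟩
  have heven : 2 ∣ Nat.card G := by
    by_contra h
    exact hna (FT (Nat.odd_iff.2 (Nat.two_dvd_ne_zero.1 h)))
  obtain ⟨t, ht⟩ := exists_prime_orderOf_dvd_card' 2 heven
  have htt : t ^ 2 = 1 := by rw [← ht]; exact pow_orderOf_eq_one t
  -- Baer-Suzuki
  have hX : IsPGroup 2 (zpowers t) := IsPGroup.of_card (n := 1) (by rw [Nat.card_zpowers, ht, pow_one])
  obtain ⟨g, hg⟩ : ∃ g : G, ¬ IsPGroup 2 ↥(zpowers t ⊔ (zpowers t).map (MulAut.conj g).toMonoidHom) := by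
    by_contra hcon
    push Not at hcon
    obtain ⟨N, hN, hNp, hNt⟩ := Cfsg.Agent.S0199.result (zpowers t) hX hcon
    rcases hN.eq_bot_or_eq_top with h | h
    · have h1 : t ∈ N := hNt (mem_zpowers t)
      rw [h, mem_bot] at h1
      rw [h1, orderOf_one] at ht
      norm_num at ht
    · apply hna
      rw [h] at hNp
      have h3 : IsPGroup 2 G := hNp.of_equiv Subgroup.topEquiv
      have := h3.isNilpotent
      infer_instance
  set D := zpowers t ⊔ (zpowers t).map (MulAut.conj g).toMonoidHom with hD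
  -- an element of odd prime order
  obtain ⟨q, hq, hq2, hqD⟩ : ∃ q : ℕ, q.Prime ∧ q ≠ 2 ∧ q ∣ Nat.card D := by
    by_contra hcon
    push Not at hcon
    apply hg
    have h1 : ∀ q : ℕ, q.Prime → q ∣ Nat.card D → q = 2 := fun q hq hqD => by
      by_contra h
      exact hcon q hq h hqD
    exact IsPGroup.of_card (Nat.eq_prime_pow_of_unique_prime_dvd Nat.card_pos.ne' (fun {d} hd hd' => h1 d hd hd'))
  have hqF : Fact q.Prime := ⟨hq⟩
  obtain ⟨z, hz⟩ := exists_prime_orderOf_dvd_card' q hqD
  have hz' : orderOf (z : G) = q := by rw [Subgroup.orderOf_coe, hz]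
  have hR : solvableRadical G = ⊥ := rad_eq_bot_of_simple hna
  obtain ⟨c, hc, hcz⟩ : ∃ c : G, (∃ k : ℕ, c ^ 2 ^ k = 1) ∧ ¬ Group.IsSolvable ↥(closure ({(z : G), c} : Set G)) := by
    by_contra hcon
    push Not at hcon
    have h1 := ih q hq hq2 z hz' (fun y hy => hcon y hy)
    rw [hR, mem_bot] at h1
    rw [h1, orderOf_one] at hz'
    exact hq.one_lt.ne hz'
  refine ⟨t, g * t * g⁻¹, c, ⟨1, by rw [pow_one, htt]⟩, ⟨1, by rw [pow_one, conj_pow, htt]; group⟩, hc, fun hs => hcz ?_⟩
  refine isSolvable_of_le ?_ hs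
  rw [closure_le]
  have hDle : D ≤ closure ({t, g * t * g⁻¹, c} : Set G) := by
    refine sup_le ?_ ?_
    · rw [zpowers_le]
      exact subset_closure (by simp)
    · rw [MonoidHom.map_zpowers, zpowers_le]
      exact subset_closure (by simp)
  rintro y (rfl | rfl)
  · exact hDle z.2
  · exact subset_closure (by simp)

end Comp

/-- **The reduction.** -/
theorem reduction (FT : ∀ (G : Type u) [Group G] [Finite G], Odd (Nat.card G) → Group.IsSolvable G)
    (core : ∀ (p : ℕ), p.Prime → p ≠ 2 → ∀ (K : Type u) [Group K] [Finite K] [IsSimpleGroup K] (x : MulAut K),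
      ¬ IsMulCommutative K → orderOf x = p → RC x → T2 x → False)
    (G : Type u) [Group G] [Finite G] (p : ℕ) (hp : p.Prime) (hp2 : p ≠ 2) (x : G) (hx : orderOf x = p)
    (h : TG x) : x ∈ solvableRadical G := by
  induction hn : Nat.card G using Nat.strong_induction_on generalizing G p with
  | _ n ih =>
    subst hn
    by_contra hxR
    have : Fact p.Prime := ⟨hp⟩
    have hR : solvableRadical G = ⊥ := by
      by_contra hne
      have hRn := rad_normal G
      set R := solvableRadical G with hRdef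
      have hx1 : QuotientGroup.mk' R x ≠ 1 := fun h1 => hxR ((QuotientGroup.eq_one_iff x).1 h1)
      have hox : orderOf (QuotientGroup.mk' R x) = p := by
        have h1 : orderOf (QuotientGroup.mk' R x) ∣ p := hx ▸ orderOf_map_dvd _ x
        rcases (Nat.dvd_prime hp).1 h1 with h2 | h2
        · exact absurd (orderOf_eq_one_iff.1 h2) hx1
        · exact h2
      have hcard : Nat.card (G ⧸ R) < Nat.card G := by
        have h3 := Subgroup.card_eq_card_quotient_mul_card_subgroup R
        have h4 : 1 < Nat.card R := (Subgroup.one_lt_card_iff_ne_bot R).mpr hne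
        have h5 : 0 < Nat.card (G ⧸ R) := Nat.card_pos
        nlinarith
      have h1 := ih _ hcard (G ⧸ R) p hp hp2 (QuotientGroup.mk' R x) hox
        (h.map (QuotientGroup.mk'_surjective R)) rfl
      have h2 : solvableRadical (G ⧸ R) = ⊥ := rad_quotient
      rw [h2, mem_bot] at h1
      exact hx1 h1
    have hsub : ∀ H : Subgroup G, H ≠ ⊤ → x ∈ H → x ∈ radIn H := by
      intro H hH hxH
      have hcard : Nat.card H < Nat.card G :=
        lt_of_le_of_ne (Subgroup.card_le_card_group H) fun h => hH (Subgroup.eq_top_of_card_eq H h)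
      have h1 := ih _ hcard H p hp hp2 ⟨x, hxH⟩ (by rw [Subgroup.orderOf_mk]; exact hx)
        (TG.subtype (x := ⟨x, hxH⟩) h) rfl
      exact mem_radIn_coe.2 h1
    have hx1 : x ≠ 1 := by
      rintro rfl
      rw [orderOf_one] at hx
      exact hp.one_lt.ne hx
    obtain ⟨L, hL, l0, hl0, hne0⟩ := exists_component hR hx1
    have hsimp := component_simple hR hL
    by_cases hm : x ∈ normalizer (L : Set G)
    swap
    · have hLt : L ≠ ⊤ := by
        rintro rfl
        exact hm (le_normalizer (mem_top x))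
      have hcard : Nat.card L < Nat.card G :=
        lt_of_le_of_ne (Subgroup.card_le_card_group L) fun h => hLt (Subgroup.eq_top_of_card_eq L h)
      obtain ⟨a, b, c, ha, hb, hc, habc⟩ := exists_three (G := L) (quasisimple_not_isSolvable hL.2) (FT L)
        (fun q hq hq2 z hz hzT => ih _ hcard L q hq hq2 z hz hzT rfl)
      exact moved3 hp2 hR (by rw [← hx]; exact pow_orderOf_eq_one x) hL hm h ha hb hc habc
    set N := normalizer (L : Set G) with hN
    set ρ : N →* MulAut L := L.normalizerMonoidHom with hρ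
    have hLN : L ≤ N := le_normalizer
    have hρL : ∀ l : L, ρ ⟨l, hLN l.2⟩ = MulAut.conj l := by
      intro l
      ext y
      rfl
    set y : MulAut L := ρ ⟨x, hm⟩ with hy
    have hyl : ∀ l : L, ((y l : L) : G) = x * l * x⁻¹ := fun l => rfl
    refine core p hp hp2 L y (quasisimple_not_isMulCommutative hL.2) ?_ ?_ ?_
    · have h1 : orderOf y ∣ p := by
        have h2 : orderOf y ∣ orderOf (⟨x, hm⟩ : N) := orderOf_map_dvd ρ _
        rwa [Subgroup.orderOf_mk, hx] at h2
      rcases (Nat.dvd_prime hp).1 h1 with h2 | h2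
      · exfalso
        rw [orderOf_eq_one_iff] at h2
        apply hne0
        have h3 : ((y ⟨l0, hl0⟩ : L) : G) = l0 := by rw [h2]; rfl
        rw [hyl] at h3
        calc x * l0 = (x * l0 * x⁻¹) * x := by group
          _ = l0 * x := by rw [h3]
      · exact h2
    · -- `RC`
      intro M hM hMx m hm'
      set M' : Subgroup G := M.map L.subtype with hM'
      set H : Subgroup G := M' ⊔ zpowers x with hH
      have hxH : x ∈ H := mem_sup_right (mem_zpowers x)
      have hM'x : ∀ g ∈ M', x * g * x⁻¹ ∈ M' := by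
        rintro _ ⟨l, hl, rfl⟩
        exact ⟨y l, hMx l hl, hyl l⟩
      have hHn : H ≤ normalizer (M' : Set G) := by
        refine sup_le le_normalizer ?_
        rw [zpowers_le]
        refine mem_normalizer_of_cj ?_
        have hle : cj x M' ≤ M' := by
          rintro _ ⟨g, hg, rfl⟩
          exact hM'x g hg
        exact Subgroup.eq_of_le_of_card_ge hle (le_of_eq (Subgroup.card_map_of_injective
          (K := M') (MulAut.conj x).injective).symm)
      have hHt : H ≠ ⊤ := by
        intro hHt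
        have hMn : M'.Normal := by
          rw [hHt] at hHn
          exact Subgroup.normalizer_eq_top_iff.1 (top_le_iff.1 hHn)
        have hMn' : M.Normal := by
          refine ⟨fun n hn g => ?_⟩
          have h1 := hMn.conj_mem _ (show (n : G) ∈ M' from ⟨n, hn, rfl⟩) g
          obtain ⟨n', hn', h2⟩ := h1
          have h3 : n' = g * n * g⁻¹ := Subtype.ext h2
          rwa [← h3]
        rcases hMn'.eq_bot_or_eq_top with h1 | h1
        · have h2 : (⊤ : Subgroup G) = zpowers x := by
            rw [← hHt, hH, hM', h1, Subgroup.map_bot, bot_sup_eq]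
          have h3 : Group.IsSolvable G := by
            have h4 : ∀ a b : G, a * b = b * a := by
              intro a b
              obtain ⟨i, rfl⟩ := mem_zpowers_iff.1 (show a ∈ zpowers x by rw [← h2]; exact mem_top _)
              obtain ⟨j, rfl⟩ := mem_zpowers_iff.1 (show b ∈ zpowers x by rw [← h2]; exact mem_top _)
              rw [← zpow_add, ← zpow_add, add_comm]
            exact Group.isSolvable_of_comm h4
          rw [← rad_eq_top_iff, hR] at h3
          have h4 : x ∈ (⊥ : Subgroup G) := by rw [h3]; exact mem_top _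
          exact hx1 (mem_bot.1 h4)
        · exact hM h1
      have hxr := hsub H hHt hxH
      have hmM' : (m : G) ∈ M' := ⟨m, hm', rfl⟩
      have hM'H : M' ≤ H := le_sup_left
      have h1 : (m : G)⁻¹ * x * m * x⁻¹ ∈ radIn H := by
        have h2 := radIn_conj_mem (inv_mem (hM'H hmM')) hxr
        rw [inv_inv] at h2
        exact mul_mem h2 (inv_mem hxr)
      have h2 : (m : G)⁻¹ * x * m * x⁻¹ ∈ M' := by
        have h3 := mul_mem (inv_mem hmM') (hM'x _ hmM')
        have e : (m : G)⁻¹ * x * m * x⁻¹ = (m : G)⁻¹ * (x * m * x⁻¹) := by group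
        rwa [e]
      have h3 := radIn_inf_le hM'H ⟨h1, h2⟩
      have h4 : (radIn M).map L.subtype = radIn M' := by
        apply le_antisymm
        · refine le_radIn (map_mono (radIn_le M)) ?_ (isSolvable_map (radIn_solvable M) _)
          rintro _ ⟨g, hg, rfl⟩ _ ⟨n, hn, rfl⟩
          exact ⟨g * n * g⁻¹, radIn_conj_mem hg hn, by simp⟩
        · have h5 : radIn M' ≤ L := (radIn_le M').trans (map_subtype_le _)
          have h6 : (radIn M').subgroupOf L ≤ radIn M := by
            refine le_radIn ?_ ?_ ?_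
            · intro l hl
              obtain ⟨l', hl', h7⟩ := radIn_le M' (mem_subgroupOf.1 hl)
              rwa [← Subtype.ext h7]
            · intro g hg n hn
              rw [mem_subgroupOf] at hn ⊢
              exact radIn_conj_mem (M := M') ⟨g, hg, rfl⟩ hn
            · have := radIn_solvable M'
              exact Group.isSolvable_of_surjective (f := (subgroupOfEquivOfLe h5).symm.toMonoidHom)
                (subgroupOfEquivOfLe h5).symm.surjective
          intro z hz
          exact ⟨⟨z, h5 hz⟩, h6 (mem_subgroupOf.2 hz), rfl⟩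
      rw [← h4] at h3
      obtain ⟨w, hw, h5⟩ := h3
      have h6 : w = m⁻¹ * y m := by
        apply Subtype.ext
        rw [show ((w : L) : G) = L.subtype w from rfl, h5]
        push_cast
        rw [hyl]
        group
      rwa [← h6]
    · -- `T2`
      rintro l ⟨k, hk⟩
      have h1 := h (l : G) ⟨k, by rw [← Subgroup.coe_pow, hk, Subgroup.coe_one]⟩
      set S : Subgroup G := closure ({x, (l : G)} : Set G) with hS
      have h2 : Group.IsSolvable ↥((S.subgroupOf N).map ρ) := by
        refine isSolvable_map ?_ _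
        let f : ↥(S.subgroupOf N) →* ↥S := (N.subtype.comp (S.subgroupOf N).subtype).codRestrict S
          fun s => s.2
        refine Group.isSolvable_of_isSolvable_injective (f := f) ?_
        intro s t hst
        have h4 : ((s : N) : G) = ((t : N) : G) := congrArg (fun z : ↥S => (z : G)) hst
        exact Subtype.ext (Subtype.ext h4)
      refine isSolvable_of_le ?_ h2
      rw [closure_le]
      rintro _ (rfl | rfl)
      · exact ⟨⟨x, hm⟩, subset_closure (by simp), rfl⟩
      · exact ⟨⟨l, hLN l.2⟩, subset_closure (by simp), hρL l⟩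

/-- **The reduction, elements of odd order.** -/
theorem reduction_odd (FT : ∀ (G : Type u) [Group G] [Finite G], Odd (Nat.card G) → Group.IsSolvable G)
    (core : ∀ (p : ℕ), p.Prime → p ≠ 2 → ∀ (K : Type u) [Group K] [Finite K] [IsSimpleGroup K] (x : MulAut K),
      ¬ IsMulCommutative K → orderOf x = p → RC x → T2 x → False)
    (G : Type u) [Group G] [Finite G] (x : G) (hx : Odd (orderOf x)) (h : TG x) : x ∈ solvableRadical G := by
  have hRn := rad_normal G
  set R := solvableRadical G with hRdef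
  by_contra hxR
  set y := QuotientGroup.mk' R x with hy
  have hy1 : y ≠ 1 := fun h1 => hxR ((QuotientGroup.eq_one_iff x).1 h1)
  have hyT : TG y := h.map (QuotientGroup.mk'_surjective R)
  have hyo : Odd (orderOf y) := hx.of_dvd_nat (orderOf_map_dvd _ x)
  have hne : orderOf y ≠ 1 := fun h1 => hy1 (orderOf_eq_one_iff.1 h1)
  obtain ⟨p, hp, m, hm⟩ : ∃ p : ℕ, p.Prime ∧ p ∣ orderOf y := Nat.exists_prime_and_dvd hne
  have hp2 : p ≠ 2 := by
    rintro rfl
    exact absurd (hyo.of_dvd_nat ⟨m, hm⟩) (by decide)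
  have hz : orderOf (y ^ m) = p := by
    have hm0 : m ≠ 0 := by
      rintro rfl
      rw [mul_zero] at hm
      exact (orderOf_pos y).ne' hm
    rw [orderOf_pow_of_dvd hm0 ⟨p, by rw [hm, mul_comm]⟩, hm]
    exact Nat.mul_div_cancel _ (Nat.pos_of_ne_zero hm0)
  have h1 := reduction FT core (G ⧸ R) p hp hp2 (y ^ m) hz (hyT.pow m)
  have h2 : solvableRadical (G ⧸ R) = ⊥ := rad_quotient
  rw [h2, mem_bot] at h1
  rw [h1, orderOf_one] at hz
  exact hp.one_lt.ne hz

end Cfsg.Agent.H959.Rad3.Red
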